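import Groth.Agent.Lib.EtShriek50.Stalk
import Mathlib.Algebra.Homology.ShortComplex.ExactFunctor
import Mathlib.Algebra.Homology.ShortComplex.Ab
import Mathlib.Algebra.Category.Grp.AB

/-!
# Exactness on stalks; `f_!` is exact for separated locally quasi-finite `f`
-/

set_option autoImplicit false

universe u

open CategoryTheory CategoryTheory.Limits AlgebraicGeometry Opposite

noncomputable section

namespace Groth.Agent.Lib.EtShriek50.Exact

open Groth.Agent.Lib.EtSite Groth.Agent.Lib.EtSite.Basic Groth.Agent.Lib.EtGerm.Basic EtShriek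
  Groth.Agent.Lib.EtShriek50

instance ab5 : AB5OfSize.{u, u} AddCommGrpCat.{u + 1} :=
  AB5OfSize_shrink.{u, u, u + 1, u + 1} AddCommGrpCat.{u + 1}

instance stalk_finiteLimits {X : Scheme.{u}} {Ω : Type u} [Field Ω] [IsSepClosed Ω]
    (ξ : Spec (CommRingCat.of Ω) ⟶ X) : PreservesFiniteLimits (EtCoh.stalk ξ) := inferInstance

instance stalk_additive {X : Scheme.{u}} {Ω : Type u} [Field Ω] [IsSepClosed Ω]
    (ξ : Spec (CommRingCat.of Ω) ⟶ X) : (EtCoh.stalk ξ).Additive :=
  Functor.additive_of_preserves_binary_products _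

/-- Algebraically closed points detect zero sheaves. -/
theorem isZero_of_stalks {X : Scheme.{u}} (F : EtCoh.Ab X)
    (h : ∀ x : X, IsZero ((EtCoh.stalk (Push.algPoint X x)).obj F)) : IsZero F := by
  have : Mono (0 : F ⟶ F) := EtSite.Stalk.mono_of_stalks _ fun x =>
    ⟨_, inferInstance, inferInstance, Push.algPoint X x, Push.algPoint_apply X x _, fun a b _ => by
      have := AddCommGrpCat.subsingleton_of_isZero (h x)
      exact Subsingleton.elim _ _⟩
  exact IsZero.of_mono_zero F F

theorem exact_of_stalks {X : Scheme.{u}} (S : ShortComplex (EtCoh.Ab X))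
    (h : ∀ x : X, (S.map (EtCoh.stalk (Push.algPoint X x))).Exact) : S.Exact := by
  rw [S.exact_iff_isZero_homology]
  refine isZero_of_stalks _ fun x => ?_
  exact IsZero.of_iso ((ShortComplex.exact_iff_isZero_homology _).1 (h x))
    (S.mapHomologyIso (EtCoh.stalk (Push.algPoint X x))).symm

variable {X Y : Scheme.{u}} (f : X ⟶ Y) [LocallyOfFiniteType f] [IsSeparated f] [LocallyQuasiFinite f]

instance : (Pre.shFunctor f).Additive where
  map_add {F G} α β := by
    apply Sheaf.hom_ext
    ext V ⟨s, hs⟩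
    rfl

variable {Ω : Type u} [Field Ω] [IsAlgClosed Ω] (η : Spec (CommRingCat.of Ω) ⟶ Y)

omit [IsSeparated f] [LocallyQuasiFinite f] in
theorem evl_naturality {F G : EtCoh.Ab X} (α : F ⟶ G) (ξ : Stalk.PtsOver f η)
    (z : Stk (Pre.sh f F) η) :
    (Stalk.evl f ξ).app G ((EtCoh.stalk η).map ((Pre.shFunctor f).map α) z) =
      (EtCoh.stalk ξ.1).map α ((Stalk.evl f ξ).app F z) :=
  congrArg (fun k => k.hom z) ((Stalk.evl f ξ).naturality α)

theorem map_injective {F G : EtCoh.Ab X} (α : F ⟶ G)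
    (h : ∀ ξ : Stalk.PtsOver f η, Function.Injective ((EtCoh.stalk ξ.1).map α)) :
    Function.Injective ((EtCoh.stalk η).map ((Pre.shFunctor f).map α)) := fun z z' e =>
  Stalk.evl_ext f F fun ξ => h ξ
    ((evl_naturality f η α ξ z).symm.trans ((congrArg _ e).trans (evl_naturality f η α ξ z')))

theorem map_surjective {F G : EtCoh.Ab X} (α : F ⟶ G) (z : Stk (Pre.sh f G) η)
    (h : ∀ ξ : Stalk.PtsOver f η, ∃ c : Stk F ξ.1,
      (EtCoh.stalk ξ.1).map α c = (Stalk.evl f ξ).app G z) :
    ∃ w : Stk (Pre.sh f F) η, (EtCoh.stalk η).map ((Pre.shFunctor f).map α) w = z := by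
  classical
  choose c hc using h
  let s := (Stalk.finite_support f G z).toFinset
  refine ⟨∑ ξ ∈ s, Stalk.single f F ξ (c ξ), Stalk.evl_ext f G fun ξ => ?_⟩
  refine (evl_naturality f η α ξ _).trans ?_
  refine (congrArg _ ((map_sum ((Stalk.evl f ξ).app F).hom _ _))).trans ?_
  by_cases hξ : ξ ∈ s
  · rw [Finset.sum_eq_single ξ (fun j _ hj => Stalk.evl_single_ne f F (Ne.symm hj) (c j))
      (fun hn => absurd hξ hn)]
    exact (congrArg _ (Stalk.evl_single f F ξ (c ξ))).trans (hc ξ)
  · have hz : (Stalk.evl f ξ).app G z = 0 := by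
      by_contra hn
      exact hξ ((Stalk.finite_support f G z).mem_toFinset.2 hn)
    rw [Finset.sum_eq_zero (fun j (hj : j ∈ s) => Stalk.evl_single_ne f F (fun (e : ξ = j) => hξ (e.symm ▸ hj)) (c j))]
    exact (map_zero ((EtCoh.stalk ξ.1).map α).hom).trans hz.symm

theorem shortExact (S : ShortComplex (EtCoh.Ab X)) (hS : S.ShortExact) :
    (S.map (Pre.shFunctor f)).ShortExact := by
  have hξ : ∀ {y : Y} (ξ : Stalk.PtsOver f (Push.algPoint Y y)),
      (S.map (EtCoh.stalk ξ.1)).ShortExact := fun ξ => hS.map_of_exact _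
  have hm : Mono ((Pre.shFunctor f).map S.f) := EtSite.Stalk.mono_of_stalks _ fun y =>
    ⟨_, inferInstance, inferInstance, Push.algPoint Y y, Push.algPoint_apply Y y _,
      map_injective f _ S.f fun ξ => (AddCommGrpCat.mono_iff_injective _).1 (hξ ξ).mono_f⟩
  have he : Epi ((Pre.shFunctor f).map S.g) := EtSite.Stalk.epi_of_stalks _ fun y =>
    ⟨_, inferInstance, inferInstance, Push.algPoint Y y, Push.algPoint_apply Y y _,
      fun z => map_surjective f _ S.g z fun ξ =>
        (AddCommGrpCat.epi_iff_surjective _).1 (hξ ξ).epi_g _⟩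
  refine { exact := exact_of_stalks _ fun y => ?_, mono_f := hm, epi_g := he }
  rw [ShortComplex.ab_exact_iff]
  intro z hz
  refine map_surjective f _ S.f z fun ξ => ?_
  refine (ShortComplex.ab_exact_iff _).1 (hξ ξ).exact _ ?_
  exact (evl_naturality f _ S.g ξ z).symm.trans ((congrArg _ hz).trans (map_zero _))

theorem preserves :
    PreservesFiniteLimits (lowerShriek f) ∧ PreservesFiniteColimits (lowerShriek f) := by
  obtain ⟨h1, h2⟩ := ((Pre.shFunctor f).exact_tfae.out 0 3).1 (shortExact f)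
  exact ⟨preservesFiniteLimits_of_natIso (Pre.lowerShriekIso f).symm,
    preservesFiniteColimits_of_natIso (Pre.lowerShriekIso f).symm⟩

end Groth.Agent.Lib.EtShriek50.Exact
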