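import Groth.Agent.Lib.EtShriek50.Exact
import Mathlib.CategoryTheory.Limits.Preserves.Shapes.Products
import Mathlib.Algebra.DirectSum.Basic

/-!
# `f_!` commutes with direct sums
-/

set_option autoImplicit false

universe u v w

open CategoryTheory CategoryTheory.Limits AlgebraicGeometry Opposite

noncomputable section

namespace Groth.Agent.Lib.EtShriek50.Coprod

open Groth.Agent.Lib.EtSite Groth.Agent.Lib.EtSite.Basic Groth.Agent.Lib.EtGerm.Basic EtShriek
  Groth.Agent.Lib.EtShriek50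

section gen

variable {C : Type w} [Category.{v} C] [Preadditive C] {ι : Type (u + 1)} [HasCoproductsOfShape ι C]
  (Z : ι → C)

open scoped Classical in
/-- The projection of a coproduct onto a summand. -/
def proj (i : ι) : ∐ Z ⟶ Z i :=
  Sigma.desc fun j => if h : j = i then eqToHom (by rw [h]) else 0

theorem ι_proj_self (i : ι) : Sigma.ι Z i ≫ proj Z i = 𝟙 _ := by simp [proj]

theorem ι_proj_ne {i j : ι} (h : j ≠ i) : Sigma.ι Z j ≫ proj Z i = 0 := by simp [proj, h]

/-- The endomorphism of a coproduct keeping the summands in `s`. -/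
def part (s : Finset ι) : ∐ Z ⟶ ∐ Z := ∑ i ∈ s, proj Z i ≫ Sigma.ι Z i

theorem part_comp {s t : Finset ι} (h : s ⊆ t) : part Z s ≫ part Z t = part Z s := by
  rw [part, part, Preadditive.sum_comp]
  refine Finset.sum_congr rfl fun i hi => ?_
  rw [Category.assoc, Preadditive.comp_sum, Finset.sum_eq_single i]
  · rw [← Category.assoc (Sigma.ι Z i), ι_proj_self, Category.id_comp]
  · exact fun j _ hj => by rw [← Category.assoc (Sigma.ι Z i), ι_proj_ne Z (Ne.symm hj), zero_comp]
  · exact fun hn => absurd (h hi) hn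

end gen

theorem hom_sum_apply {A B : AddCommGrpCat.{u + 1}} {κ : Type (u + 1)} (t : Finset κ) (φ : κ → (A ⟶ B))
    (x : A) : (∑ i ∈ t, φ i).hom x = ∑ i ∈ t, (φ i).hom x :=
  map_sum (AddMonoidHom.mk' (fun ψ : A ⟶ B => ψ.hom x) fun _ _ => rfl) φ t

open scoped DirectSum in
theorem exists_sum {ι : Type (u + 1)} (Z : ι → AddCommGrpCat.{u + 1}) (w : (∐ Z : AddCommGrpCat.{u + 1})) :
    ∃ (s : Finset ι), ∀ t : Finset ι, s ⊆ t → w = ∑ i ∈ t, (Sigma.ι Z i).hom ((proj Z i).hom w) := by
  classical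
  let D : (⨁ i, (Z i : Type (u + 1))) →+ (∐ Z : AddCommGrpCat.{u + 1}) :=
    DirectSum.toAddMonoid fun i => (Sigma.ι Z i).hom
  let d : ∐ Z ⟶ AddCommGrpCat.of (⨁ i, (Z i : Type (u + 1))) :=
    Sigma.desc fun i => AddCommGrpCat.ofHom (DirectSum.of (fun i => (Z i : Type (u + 1))) i)
  have hD : d ≫ AddCommGrpCat.ofHom D = 𝟙 _ := by
    refine Sigma.hom_ext _ _ fun i => ?_
    rw [Sigma.ι_desc_assoc, Category.comp_id]
    ext c
    exact DirectSum.toAddMonoid_of (fun i => (Sigma.ι Z i).hom) i c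
  have hp : ∀ i, (proj Z i).hom w = d.hom w i := by
    intro i
    have e : proj Z i = d ≫ AddCommGrpCat.ofHom
        (AddMonoidHom.mk' (fun x : ⨁ i, (Z i : Type (u + 1)) => x i) fun x y => DirectSum.add_apply x y i) := by
      refine Sigma.hom_ext _ _ fun j => ?_
      rw [Sigma.ι_desc_assoc]
      ext c
      by_cases h : j = i
      · subst h
        rw [ι_proj_self]
        exact (DirectSum.of_eq_same (β := fun i => (Z i : Type (u + 1))) j c).symm
      · rw [ι_proj_ne Z h]
        exact (DirectSum.of_eq_of_ne (β := fun i => (Z i : Type (u + 1))) j i c (Ne.symm h)).symm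
    rw [e]; rfl
  refine ⟨(d.hom w).support, fun t ht => ?_⟩
  have hw : D (d.hom w) = w := congrArg (fun k => k.hom w) hD
  conv_lhs => rw [← hw, ← DirectSum.sum_support_of (d.hom w)]
  rw [map_sum]
  refine Eq.trans ?_ (Finset.sum_subset ht fun i _ hi => ?_)
  · exact Finset.sum_congr rfl fun i _ => (DirectSum.toAddMonoid_of _ i _).trans (by rw [hp])
  · rw [hp, DFinsupp.notMem_support_iff.1 hi, map_zero]

variable {X Y : Scheme.{u}} (f : X ⟶ Y) [LocallyOfFiniteType f]

instance sh_additive : (Pre.shFunctor f).Additive where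
  map_add {F G} α β := by
    apply Sheaf.hom_ext
    ext V ⟨s, hs⟩
    rfl

/-- Stalks are left adjoint to skyscraper sheaves. -/
instance stalk_colimits {X : Scheme.{u}} {Ω : Type u} [Field Ω] [IsSepClosed Ω]
    (ξ : Spec (CommRingCat.of Ω) ⟶ X) : PreservesColimitsOfSize.{u + 1, u + 1} (EtCoh.stalk ξ) :=
  (Scheme.pointSmallEtale ξ).skyscraperSheafAdjunction.leftAdjoint_preservesColimits

variable {ι : Type (u + 1)} (F : ι → EtCoh.Ab X)

omit [LocallyOfFiniteType f] in
/-- Germs of a coproduct are finite sums. -/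
theorem exists_part {Ω : Type u} [Field Ω] [IsSepClosed Ω] (ξ : Spec (CommRingCat.of Ω) ⟶ X)
    (w : Stk (∐ F) ξ) : ∃ s : Finset ι, ∀ t : Finset ι, s ⊆ t → (EtCoh.stalk ξ).map (part F t) w = w := by
  classical
  let e := sigmaComparison (EtCoh.stalk ξ) F
  obtain ⟨v, hv⟩ := (ConcreteCategory.isIso_iff_bijective e).1 inferInstance |>.2 w
  obtain ⟨s, hs⟩ := exists_sum (fun i => (EtCoh.stalk ξ).obj (F i)) v
  refine ⟨s, fun t ht => ?_⟩
  have he : ∀ i, e ≫ (EtCoh.stalk ξ).map (proj F i) = proj (fun i => (EtCoh.stalk ξ).obj (F i)) i := by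
    intro i
    refine Sigma.hom_ext _ _ fun j => ?_
    rw [ι_comp_sigmaComparison_assoc, ← Functor.map_comp]
    by_cases h : j = i
    · subst h; rw [ι_proj_self, ι_proj_self, CategoryTheory.Functor.map_id]
    · rw [ι_proj_ne F h, ι_proj_ne _ h, Functor.map_zero]
  have hpart : (EtCoh.stalk ξ).map (part F t) =
      ∑ i ∈ t, (EtCoh.stalk ξ).map (proj F i) ≫ (EtCoh.stalk ξ).map (Sigma.ι F i) := by
    rw [part, Functor.map_sum]
    exact Finset.sum_congr rfl fun i _ => Functor.map_comp _ _ _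
  have key : e ≫ (EtCoh.stalk ξ).map (part F t) =
      (∑ i ∈ t, proj (fun i => (EtCoh.stalk ξ).obj (F i)) i ≫
        Sigma.ι (fun i => (EtCoh.stalk ξ).obj (F i)) i) ≫ e := by
    rw [hpart, Preadditive.comp_sum, Preadditive.sum_comp]
    refine Finset.sum_congr rfl fun i _ => ?_
    rw [← Category.assoc, he, Category.assoc, ι_comp_sigmaComparison]
  rw [← hv]
  refine (congrArg (fun k => k.hom v) key).trans (congrArg e.hom ?_)
  refine Eq.trans ?_ (hs t ht).symm
  refine (hom_sum_apply t _ v).trans ?_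
  exact Finset.sum_congr rfl fun i _ => rfl

section

variable {Ω : Type u} [Field Ω] [IsAlgClosed Ω] (η : Spec (CommRingCat.of Ω) ⟶ Y)

theorem exists_fixed (z : Stk (Pre.sh f (∐ F)) η) :
    ∃ t : Finset ι, (EtCoh.stalk η).map ((Pre.shFunctor f).map (part F t)) z = z := by
  classical
  obtain ⟨V, p, s, rfl⟩ := exists_germ _ z
  obtain ⟨V0, hV0, hpV0, -⟩ :=
    exists_isAffineOpen_mem_and_subset (X := V.left) (x := fiberPt p) (U := ⊤) trivial
  have : IsAffine (V0 : Scheme.{u}) := hV0
  have : Etale V.hom := V.prop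
  let V' : Y.Etale := MorphismProperty.Over.mk ⊤ (V0.ι ≫ V.hom) (show Etale _ from inferInstance)
  let a : V' ⟶ V := MorphismProperty.Over.homMk V0.ι rfl
  obtain ⟨p', hp', -⟩ := Fiber.exists_fiber_map η a p ⟨fiberPt p, hpV0⟩ rfl
  rw [← hp', ← germ_map]
  generalize (Pre.sh f (∐ F)).obj.map a.op s = s'
  obtain ⟨hc, hprop⟩ := (Pre.mem_iff' f (∐ F) V' s'.1).1 s'.2
  let i := (ZarCoh.ProperOver.red ⟨_, hc⟩).subschemeι
  have : IsProper (i ≫ prV f V') := hprop
  have : IsAffine V'.left := hV0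
  have : CompactSpace ↥(ZarCoh.ProperOver.red ⟨_, hc⟩).subscheme :=
    QuasiCompact.compactSpace_of_compactSpace (i ≫ prV f V')
  have hK : IsCompact (sectSupp (∐ F) ((EtCoh.bc f).obj V') s'.1) := by
    have h := isCompact_range i.continuous
    rwa [ZarCoh.ProperOver.range_red] at h
  let P : Finset ι → EtCoh.sect (∐ F) ((EtCoh.bc f).obj V') := fun t =>
    (part F t).hom.app (op ((EtCoh.bc f).obj V')) s'.1
  let O : Finset ι → Set ((EtCoh.bc f).obj V').left := fun s₀ =>
    {x | ∀ t, s₀ ⊆ t → x ∈ agree (∐ F) ((EtCoh.bc f).obj V') (P t) s'.1}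
  have hsup : ∀ x ∈ sectSupp (∐ F) ((EtCoh.bc f).obj V') s'.1,
      ∃ s₀, x ∈ agree (∐ F) ((EtCoh.bc f).obj V') (P s₀) s'.1 ∧ x ∈ O s₀ := by
    intro x _
    obtain ⟨q, hq⟩ := Supp.exists_pt (U := (EtCoh.bc f).obj V') x
    obtain ⟨s₀, hs₀⟩ := exists_part F _ (germ (∐ F) _ _ q s'.1)
    have hh : ∀ t, s₀ ⊆ t → x ∈ agree (∐ F) ((EtCoh.bc f).obj V') (P t) s'.1 := fun t ht => by
      rw [← hq]
      refine (germ_eq_iff _ _ _ q _ _).1 (Eq.trans ?_ (hs₀ t ht))
      exact ((Scheme.pointSmallEtale _).toPresheafFiber_naturality_apply (part F t).hom _ q s'.1).symm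
    exact ⟨s₀, hh s₀ le_rfl, hh⟩
  -- the set where every larger finite part agrees contains an open neighbourhood
  have hopen : ∀ x ∈ sectSupp (∐ F) ((EtCoh.bc f).obj V') s'.1,
      ∃ s₀, ∃ N : Set ((EtCoh.bc f).obj V').left, IsOpen N ∧ x ∈ N ∧ N ⊆ O s₀ := by
    intro x hx
    obtain ⟨s₀, hxs, -⟩ := hsup x hx
    refine ⟨s₀, _, isOpen_agree (∐ F) _ (P s₀) s'.1, hxs, fun y hy t ht => ?_⟩
    obtain ⟨q, hq⟩ := Supp.exists_pt (U := (EtCoh.bc f).obj V') y
    have n : ∀ r, germ (∐ F) _ _ q (P r) =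
        (EtCoh.stalk (Push.algPoint X _)).map (part F r) (germ (∐ F) _ _ q s'.1) := fun r =>
      ((Scheme.pointSmallEtale _).toPresheafFiber_naturality_apply (part F r).hom _ q s'.1).symm
    rw [← hq] at hy ⊢
    have h0 := (n s₀).symm.trans ((germ_eq_iff _ _ _ q _ _).2 hy)
    refine (germ_eq_iff _ _ _ q _ _).1 ((n t).trans ?_)
    rw [← h0]
    have hc : (EtCoh.stalk (Push.algPoint X (((EtCoh.bc f).obj V').hom.base y))).map (part F s₀) ≫
        (EtCoh.stalk _).map (part F t) = (EtCoh.stalk _).map (part F s₀) := by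
      rw [← Functor.map_comp, part_comp F ht]
    exact congrArg (fun k => k.hom (germ (∐ F) _ _ q s'.1)) hc
  choose! s₀ N hN hxN hNO using hopen
  obtain ⟨K, hKsub, hKcov⟩ := hK.elim_nhds_subcover N fun x hx => (hN x hx).mem_nhds (hxN x hx)
  refine ⟨K.sup s₀, ?_⟩
  refine ((Scheme.pointSmallEtale η).toPresheafFiber_naturality_apply
    ((Pre.shFunctor f).map (part F (K.sup s₀))).hom V' p' s').trans (congrArg _ (Subtype.ext ?_))
  change P (K.sup s₀) = s'.1
  refine EtSite.Stalk.sections_ext (∐ F) _ _ fun x => ?_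
  by_cases hx : x ∈ sectSupp (∐ F) ((EtCoh.bc f).obj V') s'.1
  · obtain ⟨k, hk, hxk⟩ := Set.mem_iUnion₂.1 (hKcov hx)
    exact hNO k (hKsub k hk) hxk _ (Finset.le_sup hk)
  · have h1 : x ∉ sectSupp (∐ F) ((EtCoh.bc f).obj V') (P (K.sup s₀)) := fun h =>
      hx (sectSupp_map_subset (part F (K.sup s₀)) _ _ h)
    obtain ⟨q, hq⟩ := Supp.exists_pt (U := (EtCoh.bc f).obj V') x
    rw [← hq] at h1 hx ⊢
    exact (germ_eq_iff _ _ _ q _ _).1
      (((Supp.germ_eq_zero_iff q _).2 h1).trans ((Supp.germ_eq_zero_iff q _).2 hx).symm)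

theorem preserves_stalk :
    PreservesColimit (Discrete.functor F) (Pre.shFunctor f ⋙ EtCoh.stalk η) := by
  classical
  let G := Pre.shFunctor f ⋙ EtCoh.stalk η
  let Z := fun i => G.obj (F i)
  let e := sigmaComparison G F
  have : G.Additive := inferInstanceAs (Pre.shFunctor f ⋙ EtCoh.stalk η).Additive
  have he : ∀ i, e ≫ G.map (proj F i) = proj Z i := by
    intro i
    refine Sigma.hom_ext _ _ fun j => ?_
    rw [ι_comp_sigmaComparison_assoc, ← Functor.map_comp]
    by_cases h : j = i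
    · subst h; rw [ι_proj_self, ι_proj_self, CategoryTheory.Functor.map_id]
    · rw [ι_proj_ne F h, ι_proj_ne _ h, Functor.map_zero]
  have hb : Function.Bijective e.hom := by
    refine ⟨(injective_iff_map_eq_zero e.hom).2 fun w hw => ?_, fun z => ?_⟩
    · obtain ⟨s, hs⟩ := exists_sum Z w
      rw [hs s le_rfl]
      refine Finset.sum_eq_zero fun i _ => ?_
      have : (proj Z i).hom w = (G.map (proj F i)).hom (e.hom w) := by rw [← he i]; rfl
      rw [this, hw, map_zero, map_zero]
    · obtain ⟨t, ht⟩ := exists_fixed f F η z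
      refine ⟨∑ i ∈ t, (Sigma.ι Z i).hom ((G.map (proj F i)).hom z), ?_⟩
      rw [map_sum]
      refine Eq.trans ?_ ht
      have : G.map (part F t) = ∑ i ∈ t, G.map (proj F i) ≫ G.map (Sigma.ι F i) := by
        rw [part, Functor.map_sum]
        exact Finset.sum_congr rfl fun i _ => Functor.map_comp _ _ _
      refine Eq.trans ?_ (congrArg (fun k => k.hom z) this).symm
      rw [hom_sum_apply]
      exact Finset.sum_congr rfl fun i _ =>
        congrArg (fun k : Z i ⟶ G.obj (∐ F) => k.hom ((G.map (proj F i)).hom z)) (ι_comp_sigmaComparison G F i)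
  have : IsIso e := (ConcreteCategory.isIso_iff_bijective e).2 hb
  exact PreservesCoproduct.of_iso_comparison G F

end

theorem preserves' (ι : Type (u + 1)) : PreservesColimitsOfShape (Discrete ι) (lowerShriek f) := by
  suffices PreservesColimitsOfShape (Discrete ι) (Pre.shFunctor f) from
    preservesColimitsOfShape_of_natIso (Pre.lowerShriekIso f).symm
  suffices h : ∀ F : ι → EtCoh.Ab X, PreservesColimit (Discrete.functor F) (Pre.shFunctor f) from
    preservesColimitsOfShape_of_discrete _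
  intro F
  have hst : ∀ y : Y, Function.Bijective
      ((EtCoh.stalk (Push.algPoint Y y)).map (sigmaComparison (Pre.shFunctor f) F)) := by
    intro y
    have := preserves_stalk f F (Push.algPoint Y y)
    have h : IsIso ((EtCoh.stalk (Push.algPoint Y y)).map (sigmaComparison (Pre.shFunctor f) F)) := by
      have e : sigmaComparison (EtCoh.stalk (Push.algPoint Y y)) (fun i => (Pre.shFunctor f).obj (F i)) ≫
          (EtCoh.stalk (Push.algPoint Y y)).map (sigmaComparison (Pre.shFunctor f) F) =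
          sigmaComparison (Pre.shFunctor f ⋙ EtCoh.stalk (Push.algPoint Y y)) F := by
        refine Sigma.hom_ext _ _ fun i => ?_
        rw [ι_comp_sigmaComparison_assoc, ← Functor.map_comp, ι_comp_sigmaComparison]
        exact (ι_comp_sigmaComparison (Pre.shFunctor f ⋙ EtCoh.stalk (Push.algPoint Y y)) F i).symm
      have : IsIso (sigmaComparison (EtCoh.stalk (Push.algPoint Y y)) (fun i => (Pre.shFunctor f).obj (F i)) ≫
          (EtCoh.stalk (Push.algPoint Y y)).map (sigmaComparison (Pre.shFunctor f) F)) := by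
        rw [e]; infer_instance
      exact IsIso.of_isIso_comp_left
        (sigmaComparison (EtCoh.stalk (Push.algPoint Y y)) (fun i => (Pre.shFunctor f).obj (F i))) _
    exact (ConcreteCategory.isIso_iff_bijective _).1 h
  have : IsIso (sigmaComparison (Pre.shFunctor f) F) := EtSite.Stalk.isIso_of_stalks _ fun y =>
    ⟨_, inferInstance, inferInstance, Push.algPoint Y y, Push.algPoint_apply Y y _, hst y⟩
  exact PreservesCoproduct.of_iso_comparison (Pre.shFunctor f) F

theorem preserves (ι : Type u) : PreservesColimitsOfShape (Discrete ι) (lowerShriek f) :=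
  have := preserves' f (ULift.{u + 1} ι)
  preservesColimitsOfShape_of_equiv (Discrete.equivalence Equiv.ulift) _

end Groth.Agent.Lib.EtShriek50.Coprod
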