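import Groth.Agent.Lib.EtShriek50.Comp

/-!
# The composition isomorphism is pinned by the inclusions into direct images
-/

set_option autoImplicit false

universe u

open CategoryTheory CategoryTheory.Limits AlgebraicGeometry Opposite

noncomputable section

namespace Groth.Agent.Lib.EtShriek50.CompUnique

open EtShriek Groth.Agent.Lib.EtShriek50

section

variable {X Y : Scheme.{u}} (f : X ⟶ Y) [LocallyOfFiniteType f]

theorem toPush_eq (F : EtCoh.Ab X) :
    lowerShriekToPush f F = (Pre.lowerShriekIso f).hom.app F ≫ (Pre.shι f).app F := by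
  refine (Equiv.symm_apply_eq _).2 ?_
  change lowerShriekPreι f F = _
  refine Eq.trans ?_ ((sheafificationAdjunction Y.smallEtaleTopology AddCommGrpCat.{u + 1}).homEquiv_unit
    (lowerShriekPre f F) ((EtCoh.push f).obj F)
    ((Pre.lowerShriekIso f).hom.app F ≫ (Pre.shι f).app F)).symm
  change _ = toSheafify Y.smallEtaleTopology (lowerShriekPre f F) ≫
    ((isoSheafify Y.smallEtaleTopology (Pre.isSheaf f F)).inv ≫ lowerShriekPreι f F)
  rw [← Category.assoc]
  refine Eq.trans (Category.id_comp _).symm (congrArg (· ≫ lowerShriekPreι f F) ?_)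
  exact ((isoSheafify Y.smallEtaleTopology (Pre.isSheaf f F)).hom_inv_id).symm

instance mono_shι (F : EtCoh.Ab X) : Mono ((Pre.shι f).app F) :=
  Sheaf.mono_of_injective _ fun _ _ _ h => Subtype.ext h

theorem mono_map {F G : EtCoh.Ab X} (α : F ⟶ G) [Mono α] : Mono ((Pre.shFunctor f).map α) := by
  have h : ∀ V, Function.Injective (α.hom.app V) := fun V =>
    (AddCommGrpCat.mono_iff_injective _).1 (inferInstance : Mono (((sheafToPresheaf _ _).map α).app V))
  exact Sheaf.mono_of_injective _ fun V a b he => Subtype.ext (h _ (congrArg Subtype.val he))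

end

variable {X Y Z : Scheme.{u}} (h : X ⟶ Y) (g : Y ⟶ Z) [LocallyOfFiniteType h] [IsSeparated g]
  [LocallyOfFiniteType g]

theorem iso_compat (F : EtCoh.Ab X) :
    (Comp.iso h g).inv.app F ≫ (Pre.shFunctor g).map ((Pre.shι h).app F) ≫
        (Pre.shι g).app ((EtCoh.push h).obj F) =
      (Pre.shι (h ≫ g)).app F ≫ (EtCoh.pushComp g h).inv.app F := by
  rw [← cancel_epi ((Comp.iso h g).hom.app F), Iso.hom_inv_id_app_assoc, ← Category.assoc
    ((Comp.iso h g).hom.app F), ← cancel_mono ((EtCoh.pushComp g h).hom.app F), Category.assoc,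
    Category.assoc, Iso.inv_hom_id_app, Category.comp_id]
  apply Sheaf.hom_ext
  ext W t
  rfl

theorem key [IsSeparated h] (F : EtCoh.Ab X) :
    ((Pre.lowerShriekIso (h ≫ g)).hom.app F ≫ (Comp.iso h g).inv.app F ≫
        (Pre.lowerShriekIso g).inv.app _ ≫ (lowerShriek g).map ((Pre.lowerShriekIso h).inv.app F)) ≫
      (lowerShriek g).map (lowerShriekToPush h F) ≫ lowerShriekToPush g ((EtCoh.push h).obj F) =
      lowerShriekToPush (h ≫ g) F ≫ (EtCoh.pushComp g h).inv.app F := by
  have e1 : (lowerShriek g).map ((Pre.lowerShriekIso h).inv.app F) ≫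
      (lowerShriek g).map (lowerShriekToPush h F) = (lowerShriek g).map ((Pre.shι h).app F) :=
    ((lowerShriek g).map_comp _ _).symm.trans (congrArg _ (by
      rw [toPush_eq]; exact Iso.inv_hom_id_app_assoc _ _ _))
  have e2 : (lowerShriek g).map ((Pre.shι h).app F) ≫ lowerShriekToPush g ((EtCoh.push h).obj F) =
      (Pre.lowerShriekIso g).hom.app ((Pre.shFunctor h).obj F) ≫
        (Pre.shFunctor g).map ((Pre.shι h).app F) ≫ (Pre.shι g).app ((EtCoh.push h).obj F) := by
    rw [toPush_eq g]
    exact (Pre.lowerShriekIso g).hom.naturality_assoc _ _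
  refine ((Category.assoc _ _ _).trans (_ ≫= (Category.assoc _ _ _).trans
    (_ ≫= (Category.assoc _ _ _).trans (_ ≫= ((Category.assoc _ _ _).symm.trans
      ((congrArg (· ≫ _) e1).trans e2)))))).trans ?_
  rw [toPush_eq (h ≫ g), Category.assoc, ← iso_compat]
  exact _ ≫= _ ≫= Iso.inv_hom_id_app_assoc _ _ _

theorem existsUnique [IsSeparated h] :
    ∃! φ : lowerShriek (h ≫ g) ≅ lowerShriek h ⋙ lowerShriek g,
      ∀ F : EtCoh.Ab X,
        φ.hom.app F ≫ (lowerShriek g).map (lowerShriekToPush h F) ≫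
            lowerShriekToPush g ((EtCoh.push h).obj F) =
          lowerShriekToPush (h ≫ g) F ≫ (EtCoh.pushComp g h).inv.app F := by
  have hm : ∀ F : EtCoh.Ab X, Mono ((lowerShriek g).map (lowerShriekToPush h F) ≫
      lowerShriekToPush g ((EtCoh.push h).obj F)) := fun F => by
    have : Mono ((Pre.shFunctor g).map (lowerShriekToPush h F)) := by
      have : Mono (lowerShriekToPush h F) := by rw [toPush_eq]; exact mono_comp _ _
      exact mono_map g _
    rw [toPush_eq g, (Pre.lowerShriekIso g).hom.naturality_assoc]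
    exact mono_comp _ _
  let φ : lowerShriek (h ≫ g) ≅ lowerShriek h ⋙ lowerShriek g :=
    Pre.lowerShriekIso (h ≫ g) ≪≫ (Comp.iso h g).symm ≪≫
      Functor.isoWhiskerLeft (Pre.shFunctor h) (Pre.lowerShriekIso g).symm ≪≫
      Functor.isoWhiskerRight (Pre.lowerShriekIso h).symm (lowerShriek g)
  have hφ : ∀ F, φ.hom.app F ≫ (lowerShriek g).map (lowerShriekToPush h F) ≫
      lowerShriekToPush g ((EtCoh.push h).obj F) =
        lowerShriekToPush (h ≫ g) F ≫ (EtCoh.pushComp g h).inv.app F := fun F => key h g F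
  refine ⟨φ, hφ, fun ψ hψ => Iso.ext (NatTrans.ext (funext fun F => ?_))⟩
  exact (hm F).right_cancellation _ _ ((hψ F).trans (hφ F).symm)

end Groth.Agent.Lib.EtShriek50.CompUnique
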