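import Groth.Agent.Lib.ZarCoh.ProperOver
import Mathlib.AlgebraicGeometry.Morphisms.Proper
import Mathlib.AlgebraicGeometry.Morphisms.Etale
import Mathlib.AlgebraicGeometry.Morphisms.UniversallyOpen

/-!
# Properness is etale local on the base
-/

set_option autoImplicit false

universe u w

open CategoryTheory CategoryTheory.Limits AlgebraicGeometry

noncomputable section

namespace Groth.Agent.Lib.EtShriek50.Descend

variable {S : Scheme.{u}} {ι : Type w} {T : ι → Scheme.{u}} (g : ∀ i, T i ⟶ S) [∀ i, Etale (g i)]
  (hsurj : ∀ s : S, ∃ i, s ∈ Set.range (g i).base)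

theorem isClosed_of_preimage {W : Scheme.{u}} (a : W ⟶ S) (C : Set W)
    (hsurj : ∀ s : S, ∃ i, s ∈ Set.range (g i).base)
    (h : ∀ i, IsClosed ((pullback.fst a (g i)).base ⁻¹' C)) : IsClosed C := by
  rw [← isOpen_compl_iff, isOpen_iff_forall_mem_open]
  intro w hw
  obtain ⟨i, t, ht⟩ := hsurj (a.base w)
  obtain ⟨z, hz, -⟩ := Scheme.Pullback.exists_preimage_pullback (f := a) (g := g i) w t ht.symm
  refine ⟨(pullback.fst a (g i)).base '' ((pullback.fst a (g i)).base ⁻¹' C)ᶜ, ?_,
    (pullback.fst a (g i)).isOpenMap _ (h i).isOpen_compl, ⟨z, ?_, hz⟩⟩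
  · rintro _ ⟨y, hy, rfl⟩
    exact hy
  · intro hzC
    apply hw
    rw [← hz]
    exact hzC

variable {Z : Scheme.{u}} (p : Z ⟶ S)

include hsurj in
theorem universallyClosed (h : ∀ i, UniversallyClosed (pullback.snd p (g i))) :
    UniversallyClosed p := by
  constructor
  intro X' Y' i₁ i₂ f' H
  change IsClosedMap f'.base
  intro C hC
  refine isClosed_of_preimage g i₂ _ hsurj fun i => ?_
  let f'' := pullback.snd f' (pullback.fst i₂ (g i))
  have hpb : UniversallyClosed f'' := by
    let e := (IsPullback.of_hasPullback f' (pullback.fst i₂ (g i))).paste_horiz H.flip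
    rw [pullback.condition (f := i₂)] at e
    have hw : (pullback.fst f' (pullback.fst i₂ (g i)) ≫ i₁) ≫ p =
        (f'' ≫ pullback.snd i₂ (g i)) ≫ g i := by
      rw [e.w, Category.assoc]
    let l := pullback.lift _ _ hw
    have e' : IsPullback l f'' (pullback.snd p (g i)) (pullback.snd i₂ (g i)) := by
      refine IsPullback.of_right ?_ (pullback.lift_snd _ _ hw)
        (IsPullback.of_hasPullback p (g i))
      rw [pullback.lift_fst]
      exact e
    exact MorphismProperty.of_isPullback e' (h i)
  have e : (pullback.fst i₂ (g i)).base ⁻¹' (f'.base '' C) =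
      f''.base '' ((pullback.fst f' (pullback.fst i₂ (g i))).base ⁻¹' C) := by
    ext y
    constructor
    · rintro ⟨x, hx, he⟩
      obtain ⟨z, hz₁, hz₂⟩ := Scheme.Pullback.exists_preimage_pullback x y he
      exact ⟨z, by rw [Set.mem_preimage, hz₁]; exact hx, hz₂⟩
    · rintro ⟨z, hz, rfl⟩
      refine ⟨_, hz, ?_⟩
      exact congrArg (fun k => k.base z) (pullback.condition (f := f') (g := pullback.fst i₂ (g i)))
  rw [e]
  exact f''.isClosedMap _ (hC.preimage (pullback.fst f' _).continuous)

/-- Evaluate composites with `pullback.lift`. -/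
local macro "pb_lift" : tactic => `(tactic| (
  simp only [pullback.map, pullback.diagonal, Category.assoc]
  repeat (first
    | rw [pullback.lift_fst_assoc] | rw [pullback.lift_snd_assoc]
    | rw [pullback.lift_fst] | rw [pullback.lift_snd]
    | rw [Category.assoc] | rw [Category.comp_id] | rw [Category.id_comp])))

include hsurj in
theorem isSeparated (h : ∀ i, IsSeparated (pullback.snd p (g i))) : IsSeparated p := by
  constructor
  refine IsClosedImmersion.of_isPreimmersion _ ?_
  refine isClosed_of_preimage g (pullback.fst p p ≫ p) _ hsurj fun i => ?_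
  let m : pullback (pullback.snd p (g i)) (pullback.snd p (g i)) ⟶ pullback p p :=
    pullback.map (pullback.snd p (g i)) (pullback.snd p (g i)) p p (pullback.fst p (g i)) (pullback.fst p (g i)) (g i)
      pullback.condition.symm pullback.condition.symm
  have hw : pullback.lift (pullback.fst (pullback.fst p p ≫ p) (g i) ≫ pullback.fst p p)
      (pullback.snd _ _) ((Category.assoc _ _ _).trans pullback.condition) ≫ pullback.snd p (g i) =
      pullback.lift (pullback.fst (pullback.fst p p ≫ p) (g i) ≫ pullback.snd p p) (pullback.snd _ _)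
        ((Category.assoc _ _ _).trans ((_ ≫= pullback.condition.symm).trans pullback.condition)) ≫
        pullback.snd p (g i) :=
    (pullback.lift_snd _ _ _).trans (pullback.lift_snd _ _ _).symm
  let n : pullback (pullback.fst p p ≫ p) (g i) ⟶ pullback (pullback.snd p (g i)) (pullback.snd p (g i)) :=
    pullback.lift
      (pullback.lift (pullback.fst _ _ ≫ pullback.fst p p) (pullback.snd _ _)
        ((Category.assoc _ _ _).trans pullback.condition))
      (pullback.lift (pullback.fst _ _ ≫ pullback.snd p p) (pullback.snd _ _)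
        ((Category.assoc _ _ _).trans ((_ ≫= pullback.condition.symm).trans pullback.condition)))
      (hw.trans rfl)
  have hnm : n ≫ m = pullback.fst (pullback.fst p p ≫ p) (g i) :=
    pullback.hom_ext (by dsimp only [n, m]; pb_lift) (by dsimp only [n, m]; simp only [pullback.map, Category.assoc]; rw [pullback.lift_snd (f := p) (g := p), pullback.lift_snd_assoc, pullback.lift_fst])
  have hd : ∀ z : ↥(pullback (pullback.fst p p ≫ p) (g i)),
      (pullback.fst (pullback.fst p p ≫ p) (g i)).base z ∈ Set.range (pullback.diagonal p).base ↔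
        n.base z ∈ Set.range (pullback.diagonal (pullback.snd p (g i))).base := by
    let l : pullback p (g i) ⟶ pullback (pullback.fst p p ≫ p) (g i) :=
      pullback.lift (pullback.fst p (g i) ≫ pullback.diagonal p) (pullback.snd p (g i)) (by simp [pullback.condition])
    have hl : l ≫ n = pullback.diagonal (pullback.snd p (g i)) :=
      pullback.hom_ext (pullback.hom_ext (by dsimp only [l, n]; pb_lift) (by dsimp only [l, n]; pb_lift))
        (pullback.hom_ext (by dsimp only [l, n]; pb_lift) (by dsimp only [l, n]; pb_lift))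
    intro z
    constructor
    · intro hz
      obtain ⟨x, hx⟩ := hz
      have hsq : IsPullback (pullback.fst p (g i)) l (pullback.diagonal p)
          (pullback.fst (pullback.fst p p ≫ p) (g i)) := by
        refine IsPullback.of_bot ?_ (pullback.lift_fst _ _ _).symm
          (IsPullback.of_hasPullback (pullback.fst p p ≫ p) (g i))
        rw [pullback.lift_snd, ← Category.assoc, pullback.diagonal_fst, Category.id_comp]
        exact IsPullback.of_hasPullback p (g i)
      obtain ⟨y, -, hy⟩ := Scheme.exists_preimage_of_isPullback hsq x z hx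
      exact ⟨y, by rw [← hl, Scheme.Hom.comp_apply, hy]⟩
    · rintro ⟨y, hy⟩
      refine ⟨(pullback.fst p (g i)).base y, ?_⟩
      have e : pullback.diagonal (pullback.snd p (g i)) ≫ m = pullback.fst p (g i) ≫ pullback.diagonal p :=
        pullback.hom_ext (by dsimp only [m]; pb_lift) (by dsimp only [m]; pb_lift)
      rw [← Scheme.Hom.comp_apply, ← e, Scheme.Hom.comp_apply, hy, ← Scheme.Hom.comp_apply, hnm]
  have : (pullback.fst (pullback.fst p p ≫ p) (g i)).base ⁻¹' Set.range (pullback.diagonal p).base =
      n.base ⁻¹' Set.range (pullback.diagonal (pullback.snd p (g i))).base := Set.ext hd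
  rw [this]
  have := h i
  exact ((pullback.diagonal (pullback.snd p (g i))).isClosedEmbedding.isClosed_range).preimage n.continuous

include hsurj in
theorem isProper [LocallyOfFiniteType p] (h : ∀ i, IsProper (pullback.snd p (g i))) : IsProper p :=
  have := universallyClosed g hsurj p fun i => (h i).toUniversallyClosed
  have := isSeparated g hsurj p fun i => (h i).toIsSeparated
  { }

/-- A closed subset is proper over the base if it is so etale locally. -/
theorem isProperOver {X : Scheme.{u}} (f : X ⟶ S) [LocallyOfFiniteType f] {C : Set X}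
    (hC : IsClosed C) (hsurj : ∀ s : S, ∃ i, s ∈ Set.range (g i).base)
    (h : ∀ i, ClSub.IsProperOver (pullback.snd f (g i)) ((pullback.fst f (g i)).base ⁻¹' C)) :
    ClSub.IsProperOver f C := by
  let j := (ZarCoh.ProperOver.red ⟨C, hC⟩).subschemeι
  refine ⟨hC, isProper g hsurj (j ≫ f) fun i => ?_⟩
  let k := pullback.lift (pullback.fst (j ≫ f) (g i) ≫ j) (pullback.snd (j ≫ f) (g i))
    ((Category.assoc _ _ _).trans pullback.condition)
  have hk : IsPullback (pullback.fst (j ≫ f) (g i)) k j (pullback.fst f (g i)) := by
    refine IsPullback.of_bot ?_ (pullback.lift_fst _ _ _).symm (IsPullback.of_hasPullback f (g i))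
    rw [pullback.lift_snd]
    exact IsPullback.of_hasPullback (j ≫ f) (g i)
  have : IsClosedImmersion k := MorphismProperty.of_isPullback hk inferInstance
  have hr : Set.range k.base = (pullback.fst f (g i)).base ⁻¹' C := by
    ext x
    constructor
    · rintro ⟨y, rfl⟩
      change (pullback.fst f (g i)).base (k.base y) ∈ C
      rw [← Scheme.Hom.comp_apply, pullback.lift_fst, Scheme.Hom.comp_apply]
      exact (ZarCoh.ProperOver.range_red ⟨C, hC⟩).le ⟨_, rfl⟩
    · intro hx
      obtain ⟨y, hy⟩ := (ZarCoh.ProperOver.range_red ⟨C, hC⟩).ge hx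
      obtain ⟨z, -, hz⟩ := Scheme.exists_preimage_of_isPullback hk y x hy
      exact ⟨z, hz⟩
  have := (ZarCoh.ProperOver.isProper_comp_iff (pullback.snd f (g i)) k hr).2 (h i)
  rw [pullback.lift_snd] at this
  exact this

end Groth.Agent.Lib.EtShriek50.Descend
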