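import Groth.Agent.Lib.EtShriek50.Supp
import Groth.Agent.Lib.EtSite.DisjointCover
import Mathlib.AlgebraicGeometry.ResidueField

/-!
# Sections supported in a closed set are detected on an etale neighbourhood of it
-/

set_option autoImplicit false

universe u

open CategoryTheory CategoryTheory.Limits AlgebraicGeometry Opposite

noncomputable section

namespace Groth.Agent.Lib.EtShriek50.Excise

open Groth.Agent.Lib.EtSite Groth.Agent.Lib.EtSite.Basic Groth.Agent.Lib.EtGerm.Basic EtShriek
  Groth.Agent.Lib.EtShriek50.Supp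

/-- Geometric points over a point with trivial residue extension are determined by their images. -/
theorem hom_ext {A B : Scheme.{u}} (φ : A ⟶ B) {K : Type u} [Field K]
    (l l' : Spec (CommRingCat.of K) ⟶ A) (hw : l ≫ φ = l' ≫ φ)
    (hpt : l.base default = l'.base default)
    (hres : ∀ z, z = l.base default → Function.Bijective (φ.residueFieldMap z)) : l = l' := by
  obtain ⟨⟨x, a⟩, rfl⟩ := (Scheme.SpecToEquivOfField K A).symm.surjective l
  obtain ⟨⟨x', a'⟩, rfl⟩ := (Scheme.SpecToEquivOfField K A).symm.surjective l'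
  simp only [Scheme.SpecToEquivOfField, Equiv.coe_fn_symm_mk, Scheme.Hom.comp_apply,
    Scheme.fromSpecResidueField_apply] at hw hpt hres ⊢
  subst hpt
  have key : φ.residueFieldMap x ≫ a = φ.residueFieldMap x ≫ a' := by
    have e : ∀ c : A.residueField x ⟶ CommRingCat.of K,
        (Spec.map c ≫ A.fromSpecResidueField x) ≫ φ =
          (Scheme.SpecToEquivOfField K B).symm ⟨φ.base x, φ.residueFieldMap x ≫ c⟩ := by
      intro c
      simp only [Scheme.SpecToEquivOfField, Equiv.coe_fn_symm_mk, Category.assoc, Spec.map_comp,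
        Scheme.Hom.SpecMap_residueFieldMap_fromSpecResidueField]
    have h' := (Scheme.SpecToEquivOfField K B).symm.injective ((e a).symm.trans (hw.trans (e a')))
    exact eq_of_heq (Sigma.mk.inj_iff.1 h').2
  have : a = a' := by
    ext z
    obtain ⟨y, rfl⟩ := (hres x rfl).2 z
    exact congrArg (fun k => k.hom y) key
  rw [this]

variable {X : Scheme.{u}} (F : EtCoh.Ab X) {U U' : X.Etale} (φ : U' ⟶ U) (Z : Set ↥U.left)

theorem bijOn (hZ : IsClosed Z) (hbij : Set.BijOn φ.left.base (φ.left.base ⁻¹' Z) Z)
    (hres : ∀ x ∈ φ.left.base ⁻¹' Z, Function.Bijective (φ.left.residueFieldMap x)) :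
    Set.BijOn (F.obj.map φ.op) {s | sectSupp F U s ⊆ Z}
      {s' | sectSupp F U' s' ⊆ φ.left.base ⁻¹' Z} := by
  refine ⟨fun s hs => ?_, fun s hs t ht he => ?_, fun s' hs' => ?_⟩
  · exact (sectSupp_map φ s).le.trans (Set.preimage_mono hs)
  · refine EtSite.Stalk.sections_ext F s t fun x => ?_
    by_cases hx : x ∈ Z
    · obtain ⟨x', -, hx'⟩ := hbij.surjOn hx
      exact ⟨U', φ, he, x', hx'⟩
    · obtain ⟨p, hp⟩ := exists_pt (U := U) x
      have h : germ F _ U p s = germ F _ U p t := by
        rw [(germ_eq_zero_iff p s).2 (fun h => hx (hp ▸ hs h)),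
          (germ_eq_zero_iff p t).2 (fun h => hx (hp ▸ ht h))]
      have hmem := (germ_eq_iff F _ U p s t).1 h
      rw [hp] at hmem
      exact hmem
  · let O : U.left.Opens := ⟨Zᶜ, hZ.isOpen_compl⟩
    have : Etale U.hom := U.prop
    let V : X.Etale := MorphismProperty.Over.mk ⊤ (O.ι ≫ U.hom) (show Etale _ from inferInstance)
    let o' : V ⟶ U := MorphismProperty.Over.homMk O.ι rfl
    let D : Bool → X.Etale := fun i => bif i then U' else V
    let o : ∀ i, D i ⟶ U := fun i => match i with
      | true => φ
      | false => o'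
    let fam : ∀ i, ToType (F.obj.obj (op (D i))) := fun i => match i with
      | true => s'
      | false => (0 : EtCoh.sect F V)
    have hcov : ∀ x : U.left, ∃ (j : Bool) (d : (D j).left), (o j).left.base d = x := fun x => by
      by_cases hx : x ∈ Z
      · obtain ⟨x', -, hx'⟩ := hbij.surjOn hx
        exact ⟨true, x', hx'⟩
      · exact ⟨false, ⟨x, hx⟩, rfl⟩
    have hF : Presieve.IsSheaf X.smallEtaleTopology (F.obj ⋙ forget AddCommGrpCat.{u + 1}) :=
      (isSheaf_iff_isSheaf_of_type _ _).1 ((sheafCompose X.smallEtaleTopology (forget AddCommGrpCat.{u + 1})).obj F).2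
    have hS : (Presieve.ofArrows D o).IsSheafFor (F.obj ⋙ forget AddCommGrpCat.{u + 1}) := by
      rw [Presieve.isSheafFor_iff_generate]
      exact hF _ (EtSite.Basic.ofArrows_mem D o hcov)
    have hzero : ∀ {W : X.Etale} (g : W ⟶ U') (q : W.left),
        φ.left.base (g.left.base q) ∉ Z → q ∉ sectSupp F W (F.obj.map g.op s') := by
      intro W g q hq h
      rw [sectSupp_map] at h
      exact hq (hs' h)
    have hcompat : ∀ (i j : Bool) (W : X.Etale) (gi : W ⟶ D i) (gj : W ⟶ D j), gi ≫ o i = gj ≫ o j →
        F.obj.map gi.op (fam i) = F.obj.map gj.op (fam j) := by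
      intro i j W gi gj hg
      refine EtSite.Stalk.sections_ext F _ _ fun q => ?_
      obtain ⟨p, hp⟩ := exists_pt (U := W) q
      suffices h : germ F _ W p (F.obj.map gi.op (fam i)) = germ F _ W p (F.obj.map gj.op (fam j)) by
        have hmem := (germ_eq_iff F _ W p _ _).1 h
        rw [hp] at hmem
        exact hmem
      have hq : ∀ y, (o i).left.base y ∈ Z → y = gi.left.base q → i = true := by
        intro y hy _
        cases i with
        | true => rfl
        | false => exact absurd hy y.2
      match i, j, gi, gj, hg with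
      | false, false, gi, gj, _ => exact ((congrArg _ (map_zero (F.obj.map gi.op).hom)).trans
          (congrArg _ (map_zero (F.obj.map gj.op).hom)).symm)
      | true, false, gi, gj, hg =>
        refine Eq.trans ?_ ((congrArg _ (map_zero (F.obj.map gj.op).hom)).trans (map_zero _)).symm
        refine (germ_eq_zero_iff p _).2 (hzero gi (fiberPt p) ?_)
        have e : φ.left.base (gi.left.base (fiberPt p)) = O.ι.base (gj.left.base (fiberPt p)) :=
          congrArg (fun k => k.left.base (fiberPt p)) hg
        rw [e]
        exact (gj.left.base (fiberPt p)).2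
      | false, true, gi, gj, hg =>
        refine ((congrArg _ (map_zero (F.obj.map gi.op).hom)).trans (map_zero _)).trans (Eq.symm ?_)
        refine (germ_eq_zero_iff p _).2 (hzero gj (fiberPt p) ?_)
        have e : O.ι.base (gi.left.base (fiberPt p)) = φ.left.base (gj.left.base (fiberPt p)) :=
          congrArg (fun k => k.left.base (fiberPt p)) hg
        rw [← e]
        exact (gi.left.base (fiberPt p)).2
      | true, true, gi, gj, hg =>
        have e : φ.left.base (gi.left.base (fiberPt p)) = φ.left.base (gj.left.base (fiberPt p)) :=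
          congrArg (fun k => k.left.base (fiberPt p)) hg
        by_cases hz : φ.left.base (gi.left.base (fiberPt p)) ∈ Z
        · rw [germ_map, germ_map]
          congr 2
          refine Over.OverMorphism.ext (hom_ext φ.left _ _ ?_ ?_ fun z hz' => hres z (hz' ▸ hz))
          · exact (Category.assoc _ _ _).trans ((fiberHom p ≫= congrArg (fun k => k.left) hg).trans
              (Category.assoc _ _ _).symm)
          · exact hbij.injOn hz (show φ.left.base (gj.left.base (fiberPt p)) ∈ Z from e ▸ hz) e
        · exact ((germ_eq_zero_iff p _).2 (hzero gi _ hz)).trans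
            ((germ_eq_zero_iff p _).2 (hzero gj _ (e ▸ hz))).symm
    obtain ⟨t, ht⟩ := ((Presieve.isSheafFor_arrows_iff (F.obj ⋙ forget AddCommGrpCat.{u + 1}) o).1 hS fam
      fun i j W gi gj hg => hcompat i j W gi gj hg).exists
    refine ⟨t, fun x hx => ?_, ht true⟩
    by_contra hn
    exact hx V o' ⟨⟨x, hn⟩, rfl⟩ (ht false)

end Groth.Agent.Lib.EtShriek50.Excise
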