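import Groth.Agent.Lib.EtShriek50.Stalk
import Groth.Agent.Lib.EtJ.ExtStalk
import Mathlib.AlgebraicGeometry.Morphisms.FlatMono

/-!
# `j_!` for separated etale `j` is the direct image with proper support
-/

set_option autoImplicit false

universe u

open CategoryTheory CategoryTheory.Limits AlgebraicGeometry Opposite

noncomputable section

namespace Groth.Agent.Lib.EtShriek50.ExtZero

open Groth.Agent.Lib.EtSite Groth.Agent.Lib.EtSite.Basic Groth.Agent.Lib.EtGerm.Basic EtShriek
  Groth.Agent.Lib.EtShriek50

/-- Extension by zero of a section from an open and closed piece. -/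
theorem exists_extend {X : Scheme.{u}} (F : EtCoh.Ab X) {C W : X.Etale} (o : C ⟶ W)
    [IsOpenImmersion o.left] (hc : IsClosed (Set.range o.left.base)) (s : EtCoh.sect F C) :
    ∃ t : EtCoh.sect F W, F.obj.map o.op t = s ∧ sectSupp F W t ⊆ Set.range o.left.base := by
  classical
  let Oc : W.left.Opens := ⟨(Set.range o.left.base)ᶜ, hc.isOpen_compl⟩
  have : Etale W.hom := W.prop
  let C' : X.Etale := MorphismProperty.Over.mk ⊤ (Oc.ι ≫ W.hom) (show Etale _ from inferInstance)
  let o' : C' ⟶ W := MorphismProperty.Over.homMk Oc.ι rfl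
  let D : Bool → X.Etale := fun i => bif i then C else C'
  let oo : ∀ i, D i ⟶ W := fun i => match i with
    | true => o
    | false => o'
  have hD : DisjointCover.IsDisjointCover D oo :=
    { isOpenImmersion := fun i => match i with
        | true => ‹IsOpenImmersion o.left›
        | false => (show IsOpenImmersion Oc.ι from inferInstance)
      exists_eq := fun x => by
        by_cases hx : x ∈ Set.range o.left.base
        · obtain ⟨d, hd⟩ := hx
          exact ⟨true, d, hd⟩
        · exact ⟨false, ⟨x, hx⟩, rfl⟩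
      disjoint := fun i j x y hxy => by
        match i, j, x, y, hxy with
        | true, true, _, _, _ => rfl
        | false, false, _, _, _ => rfl
        | true, false, x, y, hxy => exact absurd ⟨x, hxy⟩ y.2
        | false, true, x, y, hxy => exact absurd ⟨y, hxy.symm⟩ x.2 }
  let fam : ∀ i, ToType (F.obj.obj (op (D i))) := fun i => match i with
    | true => s
    | false => (0 : EtCoh.sect F C')
  obtain ⟨t, ht⟩ := hD.exists_glue F fam
  refine ⟨t, ht true, fun x hx => ?_⟩
  by_contra hn
  exact hx C' o' ⟨⟨x, hn⟩, rfl⟩ (ht false)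

theorem extend_unique {X : Scheme.{u}} (F : EtCoh.Ab X) {C W : X.Etale} (o : C ⟶ W)
    {t t' : EtCoh.sect F W} (he : F.obj.map o.op t = F.obj.map o.op t')
    (ht : sectSupp F W t ⊆ Set.range o.left.base) (ht' : sectSupp F W t' ⊆ Set.range o.left.base) :
    t = t' := by
  refine EtSite.Stalk.sections_ext F t t' fun x => ?_
  by_cases hx : x ∈ Set.range o.left.base
  · exact ⟨C, o, he, hx⟩
  · obtain ⟨p, hp⟩ := Supp.exists_pt (U := W) x
    have h : germ F _ W p t = germ F _ W p t' := by
      rw [(Supp.germ_eq_zero_iff p t).2 (fun h => hx (hp ▸ ht h)),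
        (Supp.germ_eq_zero_iff p t').2 (fun h => hx (hp ▸ ht' h))]
    have hmem := (germ_eq_iff F _ W p t t').1 h
    rw [hp] at hmem
    exact hmem

variable {U X : Scheme.{u}} (j : U ⟶ X) [Etale j] [IsSeparated j]

/-- The graph. -/
def graph (V : U.Etale) : V ⟶ (EtCoh.bc j).obj ((compEtale j).obj V) :=
  (EtJ.Basic.compEtaleAdj j).unit.app V

omit [IsSeparated j] in
theorem graph_fst (V : U.Etale) :
    (graph j V).left ≫ prV j ((compEtale j).obj V) = 𝟙 V.left := by
  have h := congrArg (fun k => k.left) ((EtJ.Basic.compEtaleAdj j).left_triangle_components V)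
  exact h

instance graph_isClosedImmersion (V : U.Etale) : IsClosedImmersion (graph j V).left := by
  have : IsClosedImmersion ((graph j V).left ≫ prV j ((compEtale j).obj V)) := by
    rw [graph_fst]; exact MorphismProperty.id_mem @IsClosedImmersion _
  exact IsClosedImmersion.of_comp (graph j V).left (prV j ((compEtale j).obj V))

instance graph_isOpenImmersion (V : U.Etale) : IsOpenImmersion (graph j V).left :=
  have := Fiber.etale_left (graph j V)
  IsOpenImmersion.of_flat_of_mono _

omit [IsSeparated j] in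
theorem isPullback_graph {V V' : U.Etale} (g : V' ⟶ V) :
    IsPullback g.left (graph j V').left (graph j V).left
      ((EtCoh.bc j).map ((compEtale j).map g)).left := by
  refine IsPullback.of_bot ?_ (congrArg (fun k => k.left) ((EtJ.Basic.compEtaleAdj j).unit.naturality g))
    (EtCoh.isPullback_bc_map j ((compEtale j).map g))
  rw [graph_fst, graph_fst]
  have h1 : IsIso (𝟙 V'.left : V'.left ⟶ V'.left) := IsIso.id _
  have h2 : IsIso (𝟙 V.left : V.left ⟶ V.left) := IsIso.id _
  exact @IsPullback.of_vert_isIso _ _ _ _ _ _ _ _ _ _ h1 h2 ⟨(Category.comp_id _).trans (Category.id_comp _).symm⟩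

variable (F : EtCoh.Ab U)

/-- The extension of a section along the graph. -/
def ext (V : U.Etale) (s : EtCoh.sect F V) : EtCoh.sect F ((EtCoh.bc j).obj ((compEtale j).obj V)) :=
  (exists_extend F (graph j V) (graph j V).left.isClosedMap.isClosed_range s).choose

theorem map_ext (V : U.Etale) (s : EtCoh.sect F V) : F.obj.map (graph j V).op (ext j F V s) = s :=
  (exists_extend F (graph j V) (graph j V).left.isClosedMap.isClosed_range s).choose_spec.1

theorem supp_ext (V : U.Etale) (s : EtCoh.sect F V) :
    sectSupp F _ (ext j F V s) ⊆ Set.range (graph j V).left.base :=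
  (exists_extend F (graph j V) (graph j V).left.isClosedMap.isClosed_range s).choose_spec.2

theorem ext_mem (V : U.Etale) (s : EtCoh.sect F V) :
    ext j F V s ∈ shriekSubgroup j F ((compEtale j).obj V) := by
  refine (Pre.mem_iff j F _ _).2 ⟨_, supp_ext j F V s,
    (ZarCoh.ProperOver.isProper_comp_iff (prV j ((compEtale j).obj V)) (graph j V).left rfl).1 ?_⟩
  rw [graph_fst]
  exact MorphismProperty.id_mem @IsProper _

theorem eq_ext {V : U.Etale} {s : EtCoh.sect F V} {t : EtCoh.sect F _}
    (h : F.obj.map (graph j V).op t = s)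
    (ht : sectSupp F _ t ⊆ Set.range (graph j V).left.base) : t = ext j F V s :=
  extend_unique F (graph j V) (h.trans (map_ext j F V s).symm) ht (supp_ext j F V s)

theorem ext_map {V V' : U.Etale} (g : V' ⟶ V) (s : EtCoh.sect F V) :
    F.obj.map ((EtCoh.bc j).map ((compEtale j).map g)).op (ext j F V s) =
      ext j F V' (F.obj.map g.op s) := by
  refine eq_ext j F ?_ fun w hw => ?_
  · have e : g ≫ graph j V = graph j V' ≫ (EtCoh.bc j).map ((compEtale j).map g) :=
      (EtJ.Basic.compEtaleAdj j).unit.naturality g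
    rw [← ConcreteCategory.comp_apply, ← Functor.map_comp, ← op_comp, ← e, op_comp, Functor.map_comp,
      ConcreteCategory.comp_apply, map_ext]
  · rw [Supp.sectSupp_map] at hw
    obtain ⟨v, hv⟩ := supp_ext j F V s hw
    obtain ⟨v', -, hv'⟩ := Scheme.exists_preimage_of_isPullback (isPullback_graph j g) v w hv
    exact ⟨v', hv'⟩

theorem ext_add (V : U.Etale) (s t : EtCoh.sect F V) :
    ext j F V s + ext j F V t = ext j F V (s + t) := by
  refine eq_ext j F ?_ ((Supp.sectSupp_add _ _).trans
    (Set.union_subset (supp_ext j F V s) (supp_ext j F V t)))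
  exact (map_add (F.obj.map (graph j V).op).hom _ _).trans
    (congrArg₂ (· + ·) (map_ext j F V s) (map_ext j F V t))

theorem ext_app {G : EtCoh.Ab U} (α : F ⟶ G) (V : U.Etale) (s : EtCoh.sect F V) :
    α.hom.app _ (ext j F V s) = ext j G V (α.hom.app _ s) := by
  refine eq_ext j G ?_ ((sectSupp_map_subset α _ _).trans (supp_ext j F V s))
  exact (NatTrans.naturality_apply α.hom (graph j V).op (ext j F V s)).symm.trans
    (congrArg (α.hom.app (op V)) (map_ext j F V s))

variable [EtShriek.JCont j]

/-- `F ⟶ (j_! F)|_U`, extension along graphs. -/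
def unit : F ⟶ (restrAlong j).obj (Pre.sh j F) :=
  ⟨{ app := fun V => AddCommGrpCat.ofHom
        ((AddMonoidHom.mk' (fun s => ext j F V.unop s) fun s t => (ext_add j F V.unop s t).symm).codRestrict
          (shriekSubgroup j F ((compEtale j).obj V.unop)) fun s => ext_mem j F V.unop s)
     naturality := fun V V' g => by
        ext s
        exact Subtype.ext (ext_map j F g.unop s).symm }⟩

theorem unit_naturality {G : EtCoh.Ab U} (α : F ⟶ G) :
    α ≫ unit j G = unit j F ≫ (restrAlong j).map ((Pre.shFunctor j).map α) := by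
  apply Sheaf.hom_ext
  ext V s
  exact Subtype.ext (ext_app j F α V.unop s).symm

/-- The comparison `j_! F ⟶` sections with proper support. -/
def cmp : (extZero j).obj F ⟶ Pre.sh j F :=
  ((extZeroAdj j).homEquiv _ _).symm (unit j F)

theorem cmp_naturality {G : EtCoh.Ab U} (α : F ⟶ G) :
    (extZero j).map α ≫ cmp j G = cmp j F ≫ (Pre.shFunctor j).map α := by
  refine ((extZeroAdj j).homEquiv_naturality_left_symm α (unit j G)).symm.trans ?_
  refine Eq.trans ?_ ((extZeroAdj j).homEquiv_naturality_right_symm (unit j F) ((Pre.shFunctor j).map α))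
  exact congrArg _ (unit_naturality j F α)

instance lqf : LocallyQuasiFinite j := FieldExt.locallyQuasiFinite_of_etale j

variable {Ω : Type u} [Field Ω] [IsAlgClosed Ω] (ξ : Spec (CommRingCat.of Ω) ⟶ X)

/-- `Stalk.single` as a morphism of stalks. -/
def single' (u : EtJ.ExtStalk.Lifts j ξ) :
    (EtCoh.stalk u.1).obj F ⟶ (EtCoh.stalk ξ).obj (Pre.sh j F) :=
  AddCommGrpCat.ofHom (Stalk.single j F u)

omit [IsSeparated j] in
theorem homEquiv_map {A : EtCoh.Ab X} (θ : (extZero j).obj F ⟶ A) (u : EtJ.ExtStalk.Lifts j ξ)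
    (V : U.Etale) (q : (Scheme.pointSmallEtale u.1).fiber.obj V) :
    (Scheme.pointSmallEtale u.1).toPresheafFiber V q F.obj ≫
        EtJ.ExtStalk.homEquiv j ξ F _ ((EtCoh.stalk ξ).map θ) u =
      ((extZeroAdj j).homEquiv _ _ θ).hom.app (op V) ≫
        (Scheme.pointSmallEtale ξ).toPresheafFiber _ (EtJ.ExtStalk.down u q) A.obj := by
  refine (EtJ.ExtStalk.skyEquiv_π j ξ F _ u V q).trans ?_
  have e1 : ((extZeroAdj j).comp (Scheme.pointSmallEtale ξ).skyscraperSheafAdjunction).homEquiv F _
      ((EtCoh.stalk ξ).map θ) =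
      (extZeroAdj j).homEquiv _ _ (θ ≫ (Scheme.pointSmallEtale ξ).skyscraperSheafAdjunction.unit.app A) := by
    rw [Adjunction.comp_homEquiv]
    refine congrArg ((extZeroAdj j).homEquiv _ _) ?_
    refine (congrArg _ (Category.comp_id _).symm).trans ?_
    refine ((Scheme.pointSmallEtale ξ).skyscraperSheafAdjunction.homEquiv_naturality_left θ (𝟙 _)).trans ?_
    exact θ ≫= (Scheme.pointSmallEtale ξ).skyscraperSheafAdjunction.homEquiv_id A
  rw [e1, Adjunction.homEquiv_naturality_right]
  refine (Category.assoc _ _ _).trans (_ ≫= ?_)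
  change ((Scheme.pointSmallEtale ξ).skyscraperSheafAdjunction.unit.app A).hom.app
    (op ((compEtale j).obj V)) ≫ Pi.π (fun _ => _) (EtJ.ExtStalk.down u q) = _
  rw [← (Scheme.pointSmallEtale ξ).skyscraperSheafAdjunction.homEquiv_id A]
  rw [GrothendieckTopology.Point.skyscraperSheafAdjunction, Adjunction.mkOfHomEquiv_homEquiv]
  exact ((Scheme.pointSmallEtale ξ).skyscraperPresheafHomEquiv_app_π (P := A.obj) (𝟙 _) _ _).trans
    (Category.comp_id _)

/-- The stalk of the comparison on the summands. -/
theorem homEquiv_cmp (u : EtJ.ExtStalk.Lifts j ξ) :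
    EtJ.ExtStalk.homEquiv j ξ F _ ((EtCoh.stalk ξ).map (cmp j F)) u =
      single' j F ξ u := by
  apply (Scheme.pointSmallEtale u.1).presheafFiber_hom_ext
  intro V q
  refine (homEquiv_map j F ξ (cmp j F) u V q).trans ?_
  rw [cmp, Equiv.apply_symm_apply]
  ext s
  change germ (Pre.sh j F) ξ _ (EtJ.ExtStalk.down u q) ((unit j F).hom.app (op V) s) =
    Stalk.single j F u (germ F u.1 V q s)
  refine Stalk.evl_ext j F fun u' => ?_
  refine (Stalk.evl_germ j u' F _ _ _).trans ?_
  change germ F u'.1 _ (PushStalk.liftPt j u'.2 _ _) (ext j F V s) = _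
  have hgraph : ∀ x : Spec (CommRingCat.of Ω) ⟶ V.left,
      x ≫ (graph j V).left = fiberHom (PushStalk.liftPt j u'.2 _ (EtJ.ExtStalk.down u q)) →
        x = fiberHom q ∧ u'.1 = u.1 := by
    intro x hx
    have h1 : x = fiberHom q := by
      have := congrArg (· ≫ prV j ((compEtale j).obj V)) hx
      exact ((Category.comp_id x).symm.trans ((x ≫= (graph_fst j V).symm).trans
        (Category.assoc _ _ _).symm)).trans (this.trans (pullback.lift_fst _ _ _))
    refine ⟨h1, ?_⟩
    have h2 := congrArg (· ≫ pullback.snd ((compEtale j).obj V).hom j) hx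
    have h3 : (graph j V).left ≫ pullback.snd ((compEtale j).obj V).hom j = V.hom :=
      Over.w (graph j V).hom
    exact (pullback.lift_snd _ _ _).symm.trans (h2.symm.trans ((Category.assoc _ _ _).trans
      ((x ≫= h3).trans ((congrArg (· ≫ V.hom) h1).trans (fiberHom_comp q)))))
  by_cases h : u' = u
  · subst h
    refine Eq.trans ?_ (Stalk.evl_single j F u' _).symm
    have hl : (Scheme.pointSmallEtale u'.1).fiber.map (graph j V) q =
        PushStalk.liftPt j u'.2 _ (EtJ.ExtStalk.down u' q) := by
      refine Over.OverMorphism.ext (pullback.hom_ext ?_ ?_)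
      · refine (Category.assoc _ _ _).trans ((_ ≫= graph_fst j V).trans ((Category.comp_id _).trans ?_))
        exact (pullback.lift_fst _ _ _).symm
      · refine (Category.assoc _ _ _).trans ((_ ≫= (Over.w (graph j V).hom :)).trans ?_)
        exact (fiberHom_comp q).trans (pullback.lift_snd _ _ _).symm
    rw [← hl, ← germ_map, map_ext]
  · refine Eq.trans ?_ (Stalk.evl_single_ne j F h _).symm
    refine (Supp.germ_eq_zero_iff _ _).2 fun hx => h ?_
    obtain ⟨d, hd⟩ := supp_ext j F V s hx
    obtain ⟨x, hx', -⟩ := Piece.exists_pt_over (graph j V).left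
      (fiberHom (PushStalk.liftPt j u'.2 _ (EtJ.ExtStalk.down u q))) d hd
    exact Subtype.ext (hgraph x hx').2

theorem bijective_stalk_cmp : Function.Bijective ((EtCoh.stalk ξ).map (cmp j F)) := by
  classical
  let Z := fun u : EtJ.ExtStalk.Lifts j ξ => (EtCoh.stalk u.1).obj F
  have key : (EtJ.ExtStalk.stalkExtZeroIso j ξ F).inv ≫ (EtCoh.stalk ξ).map (cmp j F) =
      Sigma.desc (single' j F ξ) := by
    refine Sigma.hom_ext _ _ fun u => ?_
    refine (Sigma.ι_desc_assoc _ _ _).trans (Eq.trans ?_ (Sigma.ι_desc (single' j F ξ) u).symm)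
    refine (EtJ.ExtStalk.homEquiv_naturality j ξ F _ _ u).symm.trans ?_
    rw [Category.id_comp]
    exact homEquiv_cmp j F ξ u
  let D : (DirectSum (EtJ.ExtStalk.Lifts j ξ) fun u => (Z u : Type (u + 1))) →+
      (∐ Z : AddCommGrpCat.{u + 1}) :=
    DirectSum.toAddMonoid fun u => (Sigma.ι Z u).hom
  have hD : Function.Surjective D := by
    let d : ∐ Z ⟶ AddCommGrpCat.of (DirectSum (EtJ.ExtStalk.Lifts j ξ) fun u => (Z u : Type (u + 1))) :=
      Sigma.desc fun u => AddCommGrpCat.ofHom (DirectSum.of (fun u => (Z u : Type (u + 1))) u)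
    have : d ≫ AddCommGrpCat.ofHom D = 𝟙 _ := by
      refine Sigma.hom_ext _ _ fun u => ?_
      rw [Sigma.ι_desc_assoc, Category.comp_id]
      ext c
      exact DirectSum.toAddMonoid_of (fun u => (Sigma.ι Z u).hom) u c
    exact fun w => ⟨d.hom w, congrArg (fun k => k.hom w) this⟩
  have e : ∀ w, (Sigma.desc (single' j F ξ) : ∐ Z ⟶ _).hom (D w) =
      DirectSum.toAddMonoid (fun u => (single' j F ξ u).hom) w := by
    intro w
    induction w using DirectSum.induction_on with
    | zero => rw [map_zero, map_zero, map_zero]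
    | of u c =>
      refine (congrArg _ (DirectSum.toAddMonoid_of (fun u => (Sigma.ι Z u).hom) u c)).trans ?_
      refine Eq.trans ?_ (DirectSum.toAddMonoid_of (fun u => (single' j F ξ u).hom) u c).symm
      exact congrArg (fun k => k.hom c) (Sigma.ι_desc (single' j F ξ) u)
    | add a b ha hb =>
      rw [map_add, map_add, map_add, ha, hb]
  have hb : Function.Bijective (DirectSum.toAddMonoid (fun u => (single' j F ξ u).hom) :
      (DirectSum (EtJ.ExtStalk.Lifts j ξ) fun u => (Z u : Type (u + 1))) →+ _) :=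
    Stalk.bijective_sum j F (η := ξ)
  have hdesc : Function.Bijective (Sigma.desc (single' j F ξ) : ∐ Z ⟶ _).hom := by
    refine ⟨fun a b h => ?_, fun z => ?_⟩
    · obtain ⟨a, rfl⟩ := hD a
      obtain ⟨b, rfl⟩ := hD b
      exact congrArg D (hb.1 ((e a).symm.trans (h.trans (e b))))
    · obtain ⟨w, hw⟩ := hb.2 z
      exact ⟨D w, (e w).trans hw⟩
  have : IsIso (Sigma.desc (single' j F ξ) : ∐ Z ⟶ _) :=
    (ConcreteCategory.isIso_iff_bijective _).2 hdesc
  have : IsIso ((EtJ.ExtStalk.stalkExtZeroIso j ξ F).inv ≫ (EtCoh.stalk ξ).map (cmp j F)) := by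
    rw [key]; assumption
  have : IsIso ((EtCoh.stalk ξ).map (cmp j F)) :=
    IsIso.of_isIso_comp_left (EtJ.ExtStalk.stalkExtZeroIso j ξ F).inv _
  exact (ConcreteCategory.isIso_iff_bijective _).1 this


theorem isIso_cmp : IsIso (cmp j F) :=
  EtSite.Stalk.isIso_of_stalks _ fun x =>
    ⟨_, inferInstance, inferInstance, Push.algPoint X x, Push.algPoint_apply X x _,
      bijective_stalk_cmp j F (Push.algPoint X x)⟩

/-- `j_!` is the sheaf of sections with proper support. -/
def iso : extZero j ≅ lowerShriek j :=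
  NatIso.ofComponents (F := extZero j) (G := Pre.shFunctor j) (fun F => @asIso _ _ _ _ (cmp j F) (isIso_cmp j F)) (fun {F G} α => cmp_naturality j F α) ≪≫
    (Pre.lowerShriekIso j).symm

end Groth.Agent.Lib.EtShriek50.ExtZero
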