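import Groth.Agent.Lib.EtShriek50.ExtZero

/-!
# Compactly supported sections
-/

set_option autoImplicit false

universe u

open CategoryTheory CategoryTheory.Limits AlgebraicGeometry Opposite

noncomputable section

namespace Groth.Agent.Lib.EtShriek50.Global

open EtShriek Groth.Agent.Lib.EtShriek50

variable {k : Type u} [Field k] {X Xb : Scheme.{u}} (j : X ⟶ Xb) [IsOpenImmersion j]
  (pb : Xb ⟶ Spec (CommRingCat.of k)) [IsProper pb] (F : EtCoh.Ab X)

theorem isIso_snd_top : IsIso (pullback.snd (EtCoh.top Xb).hom j) :=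
  MorphismProperty.pullback_snd (P := MorphismProperty.isomorphisms Scheme.{u}) (EtCoh.top Xb).hom j
    (IsIso.id Xb)

/-- Pullback of the final object, as schemes. -/
def ι₀ : ((EtCoh.bc j).obj (EtCoh.top Xb)).left ≅ (EtCoh.top X).left :=
  @asIso _ _ _ _ (pullback.snd (EtCoh.top Xb).hom j) (isIso_snd_top j)

/-- Pullback of the final object. -/
def e : (EtCoh.bc j).obj (EtCoh.top Xb) ≅ EtCoh.top X :=
  MorphismProperty.Over.isoMk (ι₀ j) (Category.comp_id _)

theorem e_pr : prV j (EtCoh.top Xb) = (ι₀ j).hom ≫ j :=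
  (Category.comp_id _).symm.trans (pullback.condition (f := (EtCoh.top Xb).hom) (g := j))

theorem mem_iff [LocallyOfFiniteType (j ≫ pb)] (s : EtCoh.sect F (EtCoh.top X)) :
    F.obj.map (e j).hom.op s ∈ shriekSubgroup j F (EtCoh.top Xb) ↔ s ∈ H0c (j ≫ pb) F := by
  let j' : (EtCoh.top X).left ⟶ Xb := j
  let g : (EtCoh.top X).left ⟶ Spec (CommRingCat.of k) := j ≫ pb
  haveI : LocallyOfFiniteType g := ‹LocallyOfFiniteType (j ≫ pb)›
  haveI : IsOpenImmersion j' := ‹IsOpenImmersion j›
  haveI : LocallyOfFiniteType j' := inferInstance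
  haveI : LocallyOfFiniteType ((ι₀ j).hom ≫ j') :=
    MorphismProperty.comp_mem @LocallyOfFiniteType (ι₀ j).hom j'
      (show LocallyOfFiniteType (ι₀ j).hom from inferInstance) ‹_›
  have h0 : s ∈ H0c (j ≫ pb) F ↔ ClSub.IsProperOver g (sectSupp F (EtCoh.top X) s) := by
    constructor
    · intro hs
      induction hs using AddSubgroup.closure_induction with
      | mem x hx => exact (Pre.hasProperSupport_iff g _).1 hx
      | zero =>
        rw [Supp.sectSupp_zero]
        exact ZarCoh.ProperOver.isProperOver_of_subset_iUnion g (fun i : Empty => i.elim)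
          (fun i => i.elim) isClosed_empty (Set.empty_subset _)
      | add a b _ _ ha hb =>
        refine ZarCoh.ProperOver.isProperOver_of_subset_iUnion g
          (fun i : Bool => bif i then sectSupp F _ a else sectSupp F _ b)
          (fun i => by cases i <;> assumption) (Supp.isClosed_sectSupp F _ _) fun x hx => ?_
        rcases Supp.sectSupp_add a b hx with h | h
        · exact Set.mem_iUnion.2 ⟨true, h⟩
        · exact Set.mem_iUnion.2 ⟨false, h⟩
      | neg a _ ha => rwa [Supp.sectSupp_neg]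
    · exact fun hs => AddSubgroup.subset_closure ((Pre.hasProperSupport_iff g _).2 hs)
  rw [h0, Pre.mem_iff', Supp.sectSupp_map, e_pr]
  change ClSub.IsProperOver ((ι₀ j).hom ≫ j) ((ι₀ j).hom.base ⁻¹' sectSupp F (EtCoh.top X) s) ↔ _
  let ι : ((EtCoh.bc j).obj (EtCoh.top Xb)).left ≅ (EtCoh.top X).left := ι₀ j
  have key : ∀ S : Set X, ClSub.IsProperOver j S ↔ ClSub.IsProperOver (j ≫ pb) S := by
    intro S
    constructor
    · rintro ⟨hc, hp⟩
      have := hp
      exact ⟨hc, by rw [← Category.assoc]; infer_instance⟩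
    · rintro ⟨hc, hp⟩
      exact ⟨hc, MorphismProperty.of_postcomp (W' := @IsSeparated) @IsProper _ pb inferInstance
        (by rw [Category.assoc]; exact hp)⟩
  refine Iff.trans ?_ (key _)
  constructor
  · intro h
    have h2 := Pre.isProperOver_iso ι.symm ((ι₀ j).hom ≫ j') j' (ι.inv_hom_id_assoc j') h
    have e' : ι.symm.hom.base ⁻¹' (ι.hom.base ⁻¹' sectSupp F (EtCoh.top X) s) =
        sectSupp F (EtCoh.top X) s := by
      refine Set.ext fun x => ?_
      have hx : ι.hom.base (ι.inv.base x) = x := congrArg (fun m => m.base x) ι.inv_hom_id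
      exact iff_of_eq (congrArg (· ∈ sectSupp F (EtCoh.top X) s) hx)
    exact e' ▸ h2
  · exact fun h => Pre.isProperOver_iso ι j' ((ι₀ j).hom ≫ j') rfl h

theorem nonempty [JCont j] [LocallyOfFiniteType (j ≫ pb)] :
    Nonempty ((H0c (j ≫ pb) F) ≃+ EtCoh.sect ((extZero j).obj F) (EtCoh.top Xb)) := by
  let α := ((ExtZero.iso j) ≪≫ Pre.lowerShriekIso j).app F
  let e₂ : EtCoh.sect ((extZero j).obj F) (EtCoh.top Xb) ≃+ shriekSubgroup j F (EtCoh.top Xb) :=
    (((sheafToPresheaf _ _).mapIso α).app (op (EtCoh.top Xb))).addCommGroupIsoToAddEquiv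
  let g : H0c (j ≫ pb) F →+ shriekSubgroup j F (EtCoh.top Xb) :=
    ((F.obj.map (e j).hom.op).hom.comp (H0c (j ≫ pb) F).subtype).codRestrict _
      fun s => (mem_iff j pb F s.1).2 s.2
  have hb := (ConcreteCategory.isIso_iff_bijective (F.obj.map (e j).hom.op)).1 inferInstance
  have hg : Function.Bijective g := by
    refine ⟨fun a b h => Subtype.ext (hb.1 (congrArg Subtype.val h)), fun t => ?_⟩
    obtain ⟨s, hs⟩ := hb.2 t.1
    exact ⟨⟨s, (mem_iff j pb F s).1 (hs ▸ t.2)⟩, Subtype.ext hs⟩
  exact ⟨(AddEquiv.ofBijective g hg).trans e₂.symm⟩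

end Groth.Agent.Lib.EtShriek50.Global
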