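import Groth.Agent.Lib.EtShriek50.Piece
import Mathlib.AlgebraicGeometry.Morphisms.Separated

/-!
# The etale local open and closed piece at a geometric point
-/

set_option autoImplicit false

universe u

open CategoryTheory CategoryTheory.Limits AlgebraicGeometry Opposite

noncomputable section

namespace Groth.Agent.Lib.EtShriek50.Nhd

open Groth.Agent.Lib.EtSite Groth.Agent.Lib.EtSite.Basic EtShriek

variable {X Y : Scheme.{u}} (f : X ⟶ Y) [IsSeparated f] [LocallyOfFiniteType f] [LocallyQuasiFinite f]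
  {Ω : Type u} [Field Ω] [IsAlgClosed Ω]

/-- Around a geometric point of an etale `X`-scheme, after an etale neighbourhood `T` of the image,
there is an open and closed piece of `X ×_Y T`, finite over `T`, with a single geometric point above
the given one and mapping to `U`. -/
theorem exists_piece {η : Spec (CommRingCat.of Ω) ⟶ Y} {ξ : Spec (CommRingCat.of Ω) ⟶ X}
    (h : ξ ≫ f = η) (U : X.Etale) (q : (Scheme.pointSmallEtale ξ).fiber.obj U) :
    ∃ (T : Y.Etale) (p : (Scheme.pointSmallEtale η).fiber.obj T) (C : X.Etale)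
      (o : C ⟶ (EtCoh.bc f).obj T) (b : C ⟶ U) (l : (Scheme.pointSmallEtale ξ).fiber.obj C),
      IsOpenImmersion o.left ∧ IsFinite (o.left ≫ prV f T) ∧
      (Scheme.pointSmallEtale ξ).fiber.map o l = PushStalk.liftPt f h T p ∧
      (Scheme.pointSmallEtale ξ).fiber.map b l = q ∧
      ∀ x : Spec (CommRingCat.of Ω) ⟶ C.left, x ≫ o.left ≫ prV f T = fiberHom p → x = fiberHom l := by
  have : Etale U.hom := U.prop
  obtain ⟨U0, hU0, hu, -⟩ :=
    exists_isAffineOpen_mem_and_subset (X := U.left) (x := fiberPt q) (U := ⊤) trivial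
  have : IsAffine (U0 : Scheme.{u}) := hU0
  let g0 : (U0 : Scheme.{u}) ⟶ X := U0.ι ≫ U.hom
  have : Etale g0 := inferInstance
  let h0 : (U0 : Scheme.{u}) ⟶ Y := g0 ≫ f
  have : LocallyQuasiFinite g0 := FieldExt.locallyQuasiFinite_of_etale g0
  have : LocallyQuasiFinite h0 := MorphismProperty.comp_mem @LocallyQuasiFinite g0 f ‹_› ‹_›
  have : LocallyOfFiniteType h0 := inferInstance
  have : IsSeparated (h0 ≫ terminal.from Y) := by rw [terminal.comp_from]; infer_instance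
  have : IsSeparated h0 := IsSeparated.of_comp h0 (terminal.from Y)
  obtain ⟨T0, gT, hgT, -, Vp, Wp, v, -, hfin, hv⟩ :=
    exists_etale_isCompl_of_quasiFiniteAt h0 (x := ⟨fiberPt q, hu⟩) rfl (h0.quasiFiniteAt _)
  have hq : Set.range (fiberHom q).base ⊆ Set.range U0.ι.base := by
    rintro _ ⟨a, rfl⟩
    rw [Subsingleton.elim a default]
    exact ⟨⟨fiberPt q, hu⟩, rfl⟩
  let q0 : Spec (CommRingCat.of Ω) ⟶ U0 := IsOpenImmersion.lift U0.ι (fiberHom q) hq
  have hq0 : q0 ≫ U0.ι = fiberHom q := IsOpenImmersion.lift_fac _ _ _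
  have hq0' : q0.base default = ⟨fiberPt q, hu⟩ :=
    U0.ι.isOpenEmbedding.injective (congrArg (fun k => k.base default) hq0)
  obtain ⟨l1, hl1, -⟩ := Scheme.exists_fac_of_etale_of_isSepClosed (Vp.ι ≫ pullback.fst h0 gT) q0 v
    (hv.trans hq0'.symm)
  let φ : (Vp : Scheme.{u}) ⟶ T0 := Vp.ι ≫ pullback.snd h0 gT
  obtain ⟨B', g, A', j, φ', p', l', hg, hj, hφ', hp', hl', hl'φ, hsq, huniq⟩ :=
    Piece.exists_single φ l1 (l1 ≫ φ) rfl
  -- as etale schemes
  have : Etale ((Vp.ι ≫ pullback.fst h0 gT) ≫ g0) := inferInstance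
  let e : A' ⟶ X := j ≫ (Vp.ι ≫ pullback.fst h0 gT) ≫ g0
  have : Etale e := inferInstance
  have : Etale (g ≫ gT) := inferInstance
  let T1 : Y.Etale := MorphismProperty.Over.mk ⊤ (g ≫ gT) (show Etale (g ≫ gT) from inferInstance)
  let C1 : X.Etale := MorphismProperty.Over.mk ⊤ e (show Etale e from inferInstance)
  have hw : φ' ≫ T1.hom = e ≫ f := by
    change φ' ≫ g ≫ gT = _
    rw [← Category.assoc, hsq]
    simp only [φ, e, Category.assoc]
    exact j ≫= Vp.ι ≫= pullback.condition.symm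
  let ψ : A' ⟶ ((EtCoh.bc f).obj T1).left := pullback.lift φ' e hw
  let o1 : C1 ⟶ (EtCoh.bc f).obj T1 := MorphismProperty.Over.homMk ψ (pullback.lift_snd _ _ _)
  have : Etale ψ := Fiber.etale_left o1
  have hψ : ψ ≫ prV f T1 = φ' := pullback.lift_fst _ _ _
  have : IsFinite (ψ ≫ prV f T1) := by rw [hψ]; exact hφ'
  have : IsSeparated (prV f T1) := MorphismProperty.pullback_fst (P := @IsSeparated) T1.hom f ‹_›
  obtain ⟨W, hW, hopen⟩ := Piece.exists_open_piece ψ (prV f T1) p' l' (by rw [hψ]; exact hl'φ)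
    (fun x hx => huniq x (by rw [hψ] at hx; exact hx))
  have : Etale T1.hom := T1.prop
  let T2 : Y.Etale := MorphismProperty.Over.mk ⊤ (W.ι ≫ T1.hom) (show Etale _ from inferInstance)
  let A2 := (ψ ≫ prV f T1) ⁻¹ᵁ W
  let C2 : X.Etale := MorphismProperty.Over.mk ⊤ (A2.ι ≫ e) (show Etale _ from inferInstance)
  let φ2 : (A2 : Scheme.{u}) ⟶ W := (ψ ≫ prV f T1) ∣_ W
  have hφ2 : φ2 ≫ W.ι = A2.ι ≫ φ' := (morphismRestrict_ι _ W).trans (A2.ι ≫= hψ)
  have : IsFinite φ2 := IsZariskiLocalAtTarget.restrict (P := @IsFinite) ‹_› W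
  have hw2 : φ2 ≫ T2.hom = (A2.ι ≫ e) ≫ f := by
    change φ2 ≫ W.ι ≫ T1.hom = _
    exact (Category.assoc _ _ _).symm.trans ((congrArg (· ≫ T1.hom) hφ2).trans
      ((Category.assoc _ _ _).trans ((A2.ι ≫= hw).trans (Category.assoc _ _ _).symm)))
  let ψ2 : (A2 : Scheme.{u}) ⟶ ((EtCoh.bc f).obj T2).left := pullback.lift φ2 (A2.ι ≫ e) hw2
  let o2 : C2 ⟶ (EtCoh.bc f).obj T2 := MorphismProperty.Over.homMk ψ2 (pullback.lift_snd _ _ _)
  let a : T2 ⟶ T1 := MorphismProperty.Over.homMk W.ι rfl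
  have hψ2 : ψ2 ≫ ((EtCoh.bc f).map a).left = A2.ι ≫ ψ := by
    refine pullback.hom_ext ?_ ?_
    · refine (Category.assoc _ _ _).trans ((_ ≫= (EtCoh.isPullback_bc_map f a).w).trans ?_)
      refine (Category.assoc _ _ _).symm.trans ((congrArg (· ≫ W.ι) (pullback.lift_fst _ _ _)).trans ?_)
      exact hφ2.trans ((A2.ι ≫= hψ.symm).trans (Category.assoc _ _ _).symm)
    · refine (Category.assoc _ _ _).trans ((_ ≫= (Over.w ((EtCoh.bc f).map a).hom :)).trans ?_)
      exact (pullback.lift_snd _ _ _).trans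
        ((A2.ι ≫= (pullback.lift_snd _ _ _).symm).trans (Category.assoc _ _ _).symm)
  have : IsOpenImmersion ((EtCoh.bc f).map a).left :=
    MorphismProperty.of_isPullback (P := @IsOpenImmersion) (EtCoh.isPullback_bc_map f a).flip
      (show IsOpenImmersion W.ι from inferInstance)
  have : IsOpenImmersion (ψ2 ≫ ((EtCoh.bc f).map a).left) := by rw [hψ2]; exact hopen
  have : IsOpenImmersion ψ2 := IsOpenImmersion.of_comp ψ2 ((EtCoh.bc f).map a).left
  have hp2 : Set.range p'.base ⊆ Set.range W.ι.base := by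
    rintro _ ⟨a, rfl⟩
    rw [Subsingleton.elim a default]
    exact ⟨⟨_, hW⟩, rfl⟩
  let p2 := IsOpenImmersion.lift W.ι p' hp2
  have hp2' : p2 ≫ W.ι = p' := IsOpenImmersion.lift_fac _ _ _
  have hl'e : l' ≫ e = ξ := by
    refine ((Category.assoc _ _ _).symm.trans (congrArg (· ≫ _) hl')).trans ?_
    rw [← Category.assoc, hl1, ← Category.assoc, hq0, fiberHom_comp]
  have hp'T : p' ≫ T1.hom = η := by
    rw [← hl'φ, Category.assoc, hw, ← Category.assoc, hl'e, h]
  have hl2r : Set.range l'.base ⊆ Set.range A2.ι.base := by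
    rintro _ ⟨a, rfl⟩
    rw [Subsingleton.elim a default]
    refine ⟨⟨_, ?_⟩, rfl⟩
    change (ψ ≫ prV f T1).base (l'.base default) ∈ W
    have h' : (ψ ≫ prV f T1).base (l'.base default) = p'.base default :=
      congrArg (fun k => k.base default) ((l' ≫= hψ).trans hl'φ)
    rw [h']
    exact hW
  let l2 := IsOpenImmersion.lift A2.ι l' hl2r
  have hl2 : l2 ≫ A2.ι = l' := IsOpenImmersion.lift_fac _ _ _
  let b : C2 ⟶ U := MorphismProperty.Over.homMk
    (A2.ι ≫ j ≫ (Vp.ι ≫ pullback.fst h0 gT) ≫ U0.ι) (by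
      change (A2.ι ≫ j ≫ (Vp.ι ≫ pullback.fst h0 gT) ≫ U0.ι) ≫ U.hom = A2.ι ≫ e
      simp only [e, g0, Category.assoc])
  refine ⟨T2, mkFiber η T2 p2 ?_, C2, o2, b, mkFiber ξ C2 l2 ?_, ‹IsOpenImmersion ψ2›, ?_, ?_, ?_, ?_⟩
  · change p2 ≫ W.ι ≫ T1.hom = η
    exact (Category.assoc _ _ _).symm.trans ((congrArg (· ≫ T1.hom) hp2').trans hp'T)
  · change l2 ≫ A2.ι ≫ e = ξ
    rw [← Category.assoc, hl2, hl'e]
  · change IsFinite (ψ2 ≫ prV f T2)
    have e : ψ2 ≫ prV f T2 = φ2 := pullback.lift_fst _ _ _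
    exact e.symm ▸ ‹IsFinite φ2›
  · refine Over.OverMorphism.ext (pullback.hom_ext ?_ ?_)
    · refine (Category.assoc _ _ _).trans ((_ ≫= pullback.lift_fst _ _ _).trans ?_)
      refine Eq.trans ?_ (pullback.lift_fst _ _ _).symm
      change l2 ≫ φ2 = p2
      exact (cancel_mono W.ι).1 ((Category.assoc _ _ _).trans ((l2 ≫= hφ2).trans
        ((Category.assoc _ _ _).symm.trans ((congrArg (· ≫ φ') hl2).trans (hl'φ.trans hp2'.symm)))))
    · refine (Category.assoc _ _ _).trans ((_ ≫= pullback.lift_snd _ _ _).trans ?_)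
      refine Eq.trans ?_ (pullback.lift_snd _ _ _).symm
      change l2 ≫ A2.ι ≫ e = ξ
      rw [← Category.assoc, hl2, hl'e]
  · refine Over.OverMorphism.ext ?_
    change l2 ≫ A2.ι ≫ j ≫ (Vp.ι ≫ pullback.fst h0 gT) ≫ U0.ι = fiberHom q
    rw [← Category.assoc, hl2, ← Category.assoc, hl', ← Category.assoc, hl1, hq0]
  · intro x hx
    have hx' : x ≫ φ2 = p2 := Eq.trans (x ≫= (pullback.lift_fst _ _ _).symm) hx
    have : x ≫ A2.ι = l' := huniq _ ((Category.assoc _ _ _).trans ((x ≫= hφ2.symm).trans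
      ((Category.assoc _ _ _).symm.trans ((congrArg (· ≫ W.ι) hx').trans hp2'))))
    exact (cancel_mono A2.ι).1 (this.trans hl2.symm)

end Groth.Agent.Lib.EtShriek50.Nhd
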