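import Groth.Prelude.Def_EtShriek2
import Groth.Agent.Lib.EtSite.PushStalk
import Mathlib.AlgebraicGeometry.ZariskisMainTheorem
import Mathlib.AlgebraicGeometry.AlgClosed.Basic
import Mathlib.AlgebraicGeometry.Morphisms.FlatMono

/-!
# Separated locally quasi-finite morphisms: isolating a geometric point etale locally
-/

set_option autoImplicit false

universe u

open CategoryTheory CategoryTheory.Limits AlgebraicGeometry Opposite

noncomputable section

namespace Groth.Agent.Lib.EtShriek50.Piece

open Groth.Agent.Lib.EtSite Groth.Agent.Lib.EtSite.Basic EtShriek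

variable {Ω : Type u} [Field Ω] [IsAlgClosed Ω]

/-- Geometric points lift along locally quasi-finite morphisms to every point above. -/
theorem exists_pt_over {A B : Scheme.{u}} (h : A ⟶ B) [LocallyOfFiniteType h] [LocallyQuasiFinite h]
    (p : Spec (CommRingCat.of Ω) ⟶ B) (w : A) (hw : h.base w = p.base default) :
    ∃ x : Spec (CommRingCat.of Ω) ⟶ A, x ≫ h = p ∧ x.base default = w := by
  obtain ⟨z, hz, -⟩ := Scheme.Pullback.exists_preimage_pullback (f := h) (g := p) w default hw
  have := FieldExt.discreteTopology_of_locallyQuasiFinite (pullback.snd h p)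
  have hc : IsClosed ({z} : Set ↥(pullback h p)) := isClosed_discrete _
  refine ⟨pointOfClosedPoint (pullback.snd h p) z hc ≫ pullback.fst h p, ?_, ?_⟩
  · rw [Category.assoc, pullback.condition, pointOfClosedPoint_comp_assoc]
  · rw [Scheme.Hom.comp_apply, pointOfClosedPoint_apply]
    exact hz

/-- A finite scheme splits etale locally so that one piece has a single geometric point above `p`. -/
theorem exists_single {A B : Scheme.{u}} (φ : A ⟶ B) [IsFinite φ] (l : Spec (CommRingCat.of Ω) ⟶ A)
    (p : Spec (CommRingCat.of Ω) ⟶ B) (h : l ≫ φ = p) :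
    ∃ (B' : Scheme.{u}) (g : B' ⟶ B) (A' : Scheme.{u}) (j : A' ⟶ A) (φ' : A' ⟶ B')
      (p' : Spec (CommRingCat.of Ω) ⟶ B') (l' : Spec (CommRingCat.of Ω) ⟶ A'),
      Etale g ∧ Etale j ∧ IsFinite φ' ∧ p' ≫ g = p ∧ l' ≫ j = l ∧ l' ≫ φ' = p' ∧
      φ' ≫ g = j ≫ φ ∧
      ∀ x : Spec (CommRingCat.of Ω) ⟶ A', x ≫ φ' = p' → x = l' := by
  classical
  let top := EtCoh.top B
  let pp : (Scheme.pointSmallEtale p).fiber.obj top := mkFiber p top p (Category.comp_id _)
  let ι := {x : Spec (CommRingCat.of Ω) ⟶ A // x ≫ φ = p}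
  let g₀ : EtCoh.top A ⟶ (EtCoh.bc φ).obj top :=
    MorphismProperty.Over.homMk (pullback.lift φ (𝟙 A) ((Category.comp_id _).trans (Category.id_comp _).symm))
      (pullback.lift_snd _ _ _)
  obtain ⟨V', a, p', hp', n, D, o, i, b, hD, hb, hW⟩ :=
    IntegralRefine.exists_refinement φ top pp (fun _ : ι => EtCoh.top A) (fun _ => g₀)
      (fun x => {x.1})
      (fun x m hm => by
        have hm' : m = x.1 := hm
        have : LocallyQuasiFinite g₀.left :=
          have := Fiber.etale_left g₀
          FieldExt.locallyQuasiFinite_of_etale _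
        have : LocallyQuasiFinite (pullback.fst top.hom φ) :=
          MorphismProperty.pullback_fst (P := @LocallyQuasiFinite) _ _ inferInstance
        have : LocallyQuasiFinite (g₀.left ≫ pullback.fst top.hom φ) :=
          MorphismProperty.comp_mem @LocallyQuasiFinite _ _ ‹LocallyQuasiFinite g₀.left› ‹_›
        have := FieldExt.discreteTopology_of_locallyQuasiFinite
          (pullback.snd (g₀.left ≫ pullback.fst top.hom φ) (fiberHom pp))
        refine ⟨{z | ∀ s : Spec (CommRingCat.of Ω) ⟶
            pullback (g₀.left ≫ pullback.fst top.hom φ) (fiberHom pp),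
            s ≫ pullback.snd _ _ = 𝟙 _ → s.base default = z → s ≫ pullback.fst _ _ = x.1},
          isOpen_discrete _, fun s hs hsl s' hs' h' => ?_, fun s hs hs' => hs' s hs rfl⟩
        have h1 := FieldExt.eq_comp_section hs s' h'
        rw [hs', Category.id_comp] at h1
        rw [h1, hsl]
        exact hm')
      (fun x hx => by
        have hx' : (x ≫ pullback.snd top.hom φ) ≫ φ = p := PushStalk.snd_comp_eq φ hx
        refine ⟨⟨_, hx'⟩, _, rfl, pullback.hom_ext ?_ ?_⟩
        · refine (Category.assoc _ _ _).trans ((_ ≫= pullback.lift_fst _ _ _).trans ?_)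
          exact hx'.trans hx.symm
        · exact (Category.assoc _ _ _).trans ((_ ≫= pullback.lift_snd _ _ _).trans (Category.comp_id _)))
  let l₂ := pullback.lift (fiberHom p') l ((fiberHom_comp p').trans h.symm)
  obtain ⟨j₀, d, hd⟩ := hD.exists_fac l₂
  have := hD.isOpenImmersion j₀
  have hfin : IsFinite ((o j₀).left ≫ pullback.fst V'.hom φ) := by
    have : IsClosedImmersion (o j₀).left := by
      refine IsClosedImmersion.of_isPreimmersion _ ?_
      rw [← isOpen_compl_iff, isOpen_iff_forall_mem_open]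
      intro z hz
      obtain ⟨k, e, he⟩ := hD.exists_eq z
      refine ⟨Set.range (o k).left.base, ?_, Fiber.isOpen_range_left (o k), e, he⟩
      rintro _ ⟨e', rfl⟩ ⟨e'', he''⟩
      exact hz (by obtain rfl := hD.disjoint j₀ k e'' e' he''; exact ⟨e, he⟩)
    exact MorphismProperty.comp_mem @IsFinite (o j₀).left (pullback.fst V'.hom φ)
      (show IsFinite (o j₀).left from inferInstance)
      (MorphismProperty.pullback_fst (P := @IsFinite) _ _ ‹_›)
  have : Etale (D j₀).hom := (D j₀).prop
  refine ⟨V'.left, V'.hom, (D j₀).left, (D j₀).hom, (o j₀).left ≫ pullback.fst V'.hom φ, fiberHom p', d,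
    V'.prop, (D j₀).prop, hfin, fiberHom_comp p', ?_, ?_, ?_, ?_⟩
  · refine (d ≫= (Over.w (o j₀).hom).symm).trans ((Category.assoc _ _ _).symm.trans ?_)
    exact (congrArg (· ≫ ((EtCoh.bc φ).obj V').hom) hd).trans (pullback.lift_snd _ _ _)
  · exact (Category.assoc _ _ _).symm.trans
      ((congrArg (· ≫ pullback.fst V'.hom φ) hd).trans (pullback.lift_fst _ _ _))
  · refine (Category.assoc _ _ _).trans ((_ ≫= pullback.condition).trans ?_)
    exact (Category.assoc _ _ _).symm.trans (congrArg (· ≫ φ) (Over.w (o j₀).hom :))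
  · intro x hx
    have hA : ∀ y : Spec (CommRingCat.of Ω) ⟶ (D j₀).left,
        y ≫ (o j₀).left ≫ pullback.fst V'.hom φ = fiberHom p' → y ≫ (D j₀).hom = (i j₀).1 := by
      intro y hy
      have h1 : y ≫ (b j₀).left = (i j₀).1 := hW j₀ y hy
      refine Eq.trans (y ≫= ?_) h1
      exact (Over.w (b j₀).hom).symm.trans (Category.comp_id _)
    have hdfst : d ≫ (o j₀).left ≫ pullback.fst V'.hom φ = fiberHom p' :=
      (Category.assoc _ _ _).symm.trans
        ((congrArg (· ≫ pullback.fst V'.hom φ) hd).trans (pullback.lift_fst _ _ _))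
    rw [← cancel_mono (o j₀).left]
    refine pullback.hom_ext ?_ ?_
    · exact (Category.assoc _ _ _).trans (hx.trans (hdfst.symm.trans (Category.assoc _ _ _).symm))
    · have hw : (o j₀).left ≫ pullback.snd V'.hom φ = (D j₀).hom := Over.w (o j₀).hom
      exact (Category.assoc _ _ _).trans ((x ≫= hw).trans ((hA x hx).trans ((hA d hdfst).symm.trans
        ((d ≫= hw.symm).trans (Category.assoc _ _ _).symm))))

/-- A point of a separated etale scheme finite over `B`, alone over `p`, gives an open and closed piece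
after shrinking `B`. -/
theorem exists_open_piece {A P B : Scheme.{u}} (ψ : A ⟶ P) (π : P ⟶ B) [Etale ψ] [IsSeparated π]
    [IsFinite (ψ ≫ π)] (p : Spec (CommRingCat.of Ω) ⟶ B) (l : Spec (CommRingCat.of Ω) ⟶ A)
    (hl : l ≫ ψ ≫ π = p) (huniq : ∀ x : Spec (CommRingCat.of Ω) ⟶ A, x ≫ ψ ≫ π = p → x = l) :
    ∃ W : B.Opens, p.base default ∈ W ∧
      IsOpenImmersion (((ψ ≫ π) ⁻¹ᵁ W).ι ≫ ψ) := by
  have : IsFinite ψ := MorphismProperty.of_postcomp (W' := @IsSeparated) @IsFinite ψ π ‹_› ‹_›
  let δ := pullback.diagonal ψ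
  have : IsOpenImmersion δ := inferInstance
  let θ := pullback.fst ψ ψ ≫ ψ ≫ π
  have : IsFinite (pullback.fst ψ ψ) := MorphismProperty.pullback_fst (P := @IsFinite) _ _ ‹_›
  have : IsFinite θ := by dsimp only [θ]; infer_instance
  have hRc : IsClosed (Set.range δ.base)ᶜ := δ.isOpenEmbedding.isOpen_range.isClosed_compl
  let W : B.Opens := ⟨(θ.base '' (Set.range δ.base)ᶜ)ᶜ, (θ.isClosedMap _ hRc).isOpen_compl⟩
  refine ⟨W, ?_, ?_⟩
  · rintro ⟨w, hw, hwp⟩
    obtain ⟨x, hx, rfl⟩ := exists_pt_over θ p w hwp
    have h1 : x ≫ pullback.fst ψ ψ = l := huniq _ ((Category.assoc _ _ _).trans hx)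
    have h2 : x ≫ pullback.snd ψ ψ = l := huniq _ ((Category.assoc _ _ _).trans (by
      rw [← pullback.condition_assoc]; exact hx))
    apply hw
    refine ⟨l.base default, ?_⟩
    have : x = l ≫ δ := pullback.hom_ext
      (by rw [h1, Category.assoc, pullback.diagonal_fst, Category.comp_id])
      (by rw [h2, Category.assoc, pullback.diagonal_snd, Category.comp_id])
    rw [this, Scheme.Hom.comp_apply]
  · set j := ((ψ ≫ π) ⁻¹ᵁ W).ι with hj
    have : Etale (j ≫ ψ) := inferInstance
    have : Mono (j ≫ ψ) := by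
      let m : pullback (j ≫ ψ) (j ≫ ψ) ⟶ pullback ψ ψ :=
        pullback.map (j ≫ ψ) (j ≫ ψ) ψ ψ j j (𝟙 P) (Category.comp_id _) (Category.comp_id _)
      have : IsOpenImmersion m :=
        MorphismProperty.pullbackMap (P := @IsOpenImmersion) (f := j ≫ ψ) (g := j ≫ ψ) (f' := ψ)
          (g' := ψ) (i₁ := j) (i₂ := j) inferInstance inferInstance rfl rfl
      have hm : pullback.diagonal (j ≫ ψ) ≫ m = j ≫ δ := by
        apply pullback.hom_ext
        · refine (Category.assoc _ _ _).trans ((_ ≫= pullback.lift_fst _ _ _).trans ?_)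
          rw [← Category.assoc, pullback.diagonal_fst, Category.id_comp, Category.assoc,
            pullback.diagonal_fst, Category.comp_id]
        · refine (Category.assoc _ _ _).trans ((_ ≫= pullback.lift_snd _ _ _).trans ?_)
          rw [← Category.assoc, pullback.diagonal_snd, Category.id_comp, Category.assoc,
            pullback.diagonal_snd, Category.comp_id]
      rw [← pullback.isIso_diagonal_iff]
      have hs : Function.Surjective (pullback.diagonal (j ≫ ψ)).base := by
        intro w
        have hw : m.base w ∈ Set.range δ.base := by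
          by_contra hn
          have hW : θ.base (m.base w) ∈ W := by
            have : m ≫ θ = pullback.fst (j ≫ ψ) (j ≫ ψ) ≫ j ≫ ψ ≫ π := by
              refine (Category.assoc _ _ _).symm.trans ((congrArg (· ≫ ψ ≫ π) (pullback.lift_fst _ _ _)).trans ?_)
              exact Category.assoc _ _ _
            rw [← Scheme.Hom.comp_apply, this, Scheme.Hom.comp_apply, Scheme.Hom.comp_apply]
            exact ((pullback.fst (j ≫ ψ) (j ≫ ψ)).base w).2
          exact hW ⟨_, hn, rfl⟩
        obtain ⟨c, hc⟩ := hw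
        have hcA : c = j.base ((pullback.fst (j ≫ ψ) (j ≫ ψ)).base w) := by
          have e1 : m ≫ pullback.fst ψ ψ = pullback.fst (j ≫ ψ) (j ≫ ψ) ≫ j := pullback.lift_fst _ _ _
          have := congrArg (pullback.fst ψ ψ).base hc
          rw [← Scheme.Hom.comp_apply, pullback.diagonal_fst] at this
          rw [← Scheme.Hom.comp_apply, ← e1, Scheme.Hom.comp_apply]
          exact this
        refine ⟨(pullback.fst (j ≫ ψ) (j ≫ ψ)).base w, m.isOpenEmbedding.injective ?_⟩
        rw [← Scheme.Hom.comp_apply, hm, Scheme.Hom.comp_apply, ← hcA, hc]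
      have : Epi (pullback.diagonal (j ≫ ψ)).base := (TopCat.epi_iff_surjective _).2 hs
      exact IsOpenImmersion.isIso _
    exact IsOpenImmersion.of_flat_of_mono _

end Groth.Agent.Lib.EtShriek50.Piece
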