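import Groth.Agent.Lib.EtShriek50.Supp
import Groth.Agent.Lib.EtShriek50.Descend
import Groth.Agent.Lib.EtSite.Fiber

/-!
# Sections with proper support form a sheaf
-/

set_option autoImplicit false

universe u

open CategoryTheory CategoryTheory.Limits AlgebraicGeometry Opposite

noncomputable section

namespace Groth.Agent.Lib.EtShriek50.Pre

open EtShriek Groth.Agent.Lib.EtShriek50.Supp

variable {X Y : Scheme.{u}}

/-- Transport of `IsProperOver` along an isomorphism. -/
theorem isProperOver_iso {A B T : Scheme.{u}} (e : A ≅ B) (f : B ⟶ T) [LocallyOfFiniteType f]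
    (f' : A ⟶ T) [LocallyOfFiniteType f'] (w : e.hom ≫ f = f') {Z : Set B}
    (hZ : ClSub.IsProperOver f Z) : ClSub.IsProperOver f' (e.hom.base ⁻¹' Z) := by
  refine ZarCoh.ProperOver.isProperOver_preimage f e.hom f' hZ fun i hi => ?_
  have := hi
  rw [← w, ← Category.assoc, pullback.condition, Category.assoc]
  infer_instance

theorem hasProperSupport_iff {F : EtCoh.Ab X} {U : X.Etale} {T : Scheme.{u}} (g : U.left ⟶ T)
    [LocallyOfFiniteType g] (s : EtCoh.sect F U) :
    HasProperSupport F U s g ↔ ClSub.IsProperOver g (sectSupp F U s) :=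
  ⟨fun ⟨_, hs, hp⟩ => ZarCoh.ProperOver.isProperOver_of_subset g hp (isClosed_sectSupp F U s) hs,
    fun h => ⟨_, le_rfl, h⟩⟩

variable (f : X ⟶ Y) [LocallyOfFiniteType f] (F : EtCoh.Ab X)

instance lft_prV (V : Y.Etale) : LocallyOfFiniteType (prV f V) :=
  MorphismProperty.pullback_fst (P := @LocallyOfFiniteType) V.hom f inferInstance

omit [LocallyOfFiniteType f] in
instance sep_prV [IsSeparated f] (V : Y.Etale) : IsSeparated (prV f V) :=
  MorphismProperty.pullback_fst (P := @IsSeparated) V.hom f inferInstance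

omit [LocallyOfFiniteType f] in
theorem isPullback_pr {V V' : Y.Etale} (φ : V' ⟶ V) :
    IsPullback ((EtCoh.bc f).map φ).left (prV f V') (prV f V) φ.left :=
  EtCoh.isPullback_bc_map f φ

theorem isProperOver_map {V V' : Y.Etale} (φ : V' ⟶ V) {Z : Set ((EtCoh.bc f).obj V).left}
    (hZ : ClSub.IsProperOver (prV f V) Z) :
    ClSub.IsProperOver (prV f V') (((EtCoh.bc f).map φ).left.base ⁻¹' Z) := by
  refine ZarCoh.ProperOver.isProperOver_preimage (prV f V) _ (prV f V') hZ fun i hi => ?_
  exact MorphismProperty.of_isPullback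
    ((IsPullback.of_hasPullback ((EtCoh.bc f).map φ).left i).flip.paste_vert (isPullback_pr f φ)) hi

theorem mem_iff (V : Y.Etale) (s : EtCoh.sect F ((EtCoh.bc f).obj V)) :
    s ∈ shriekSubgroup f F V ↔ HasProperSupport F ((EtCoh.bc f).obj V) s (prV f V) := by
  constructor
  · intro hs
    induction hs using AddSubgroup.closure_induction with
    | mem x hx =>
      have := hx V (𝟙 V)
      rwa [CategoryTheory.Functor.map_id, op_id, CategoryTheory.Functor.map_id] at this
    | zero => exact (hasProperSupport_iff _ _).2 (by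
        rw [sectSupp_zero]
        exact ZarCoh.ProperOver.isProperOver_of_subset_iUnion (prV f V) (fun i : Empty => i.elim)
          (fun i => i.elim) isClosed_empty (Set.empty_subset _))
    | add a b _ _ ha hb =>
      rw [hasProperSupport_iff] at ha hb ⊢
      refine ZarCoh.ProperOver.isProperOver_of_subset_iUnion (prV f V)
        (fun i : Bool => bif i then sectSupp F _ a else sectSupp F _ b)
        (fun i => by cases i <;> assumption) (isClosed_sectSupp F _ _) fun x hx => ?_
      rcases sectSupp_add a b hx with h | h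
      · exact Set.mem_iUnion.2 ⟨true, h⟩
      · exact Set.mem_iUnion.2 ⟨false, h⟩
    | neg a _ ha =>
      rw [hasProperSupport_iff] at ha ⊢
      rwa [sectSupp_neg]
  · intro hs
    refine AddSubgroup.subset_closure fun V' φ => ?_
    rw [hasProperSupport_iff] at hs ⊢
    rw [sectSupp_map]
    exact isProperOver_map f φ hs

theorem mem_iff' (V : Y.Etale) (s : EtCoh.sect F ((EtCoh.bc f).obj V)) :
    s ∈ shriekSubgroup f F V ↔ ClSub.IsProperOver (prV f V) (sectSupp F ((EtCoh.bc f).obj V) s) :=
  (mem_iff f F V s).trans (hasProperSupport_iff _ _)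

/-- Membership in the sections with proper support is local. -/
theorem mem_of_cover {V : Y.Etale} (S : Sieve V) (hS : S ∈ Y.smallEtaleTopology V)
    (t : EtCoh.sect F ((EtCoh.bc f).obj V))
    (h : ∀ ⦃V' : Y.Etale⦄ (φ : V' ⟶ V), S φ →
      F.obj.map ((EtCoh.bc f).map φ).op t ∈ shriekSubgroup f F V') :
    t ∈ shriekSubgroup f F V := by
  rw [mem_iff']
  have : ∀ i : Σ V' : Y.Etale, {φ : V' ⟶ V // S φ}, Etale i.2.1.left := fun i =>
    EtSite.Fiber.etale_left i.2.1
  refine Descend.isProperOver (fun i : Σ V' : Y.Etale, {φ : V' ⟶ V // S φ} => i.2.1.left) (prV f V)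
    (isClosed_sectSupp F _ _) ?_ fun i => ?_
  · intro v
    obtain ⟨V', φ, hφ, x, hx⟩ := (EtSite.Basic.mem_topology_iff S).1 hS v
    exact ⟨⟨V', φ, hφ⟩, x, hx⟩
  · obtain ⟨V', φ, hφ⟩ := i
    have h1 := (mem_iff' f F V' _).1 (h φ hφ)
    rw [sectSupp_map] at h1
    let e := (isPullback_pr f φ).isoPullback.symm
    have h2 := isProperOver_iso e (prV f V') (pullback.snd (prV f V) φ.left)
      ((isPullback_pr f φ).isoPullback_inv_snd) h1
    have he : e.hom ≫ ((EtCoh.bc f).map φ).left = pullback.fst (prV f V) φ.left :=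
      (isPullback_pr f φ).isoPullback_inv_fst
    rw [← he]
    exact h2

theorem isSheaf : Presheaf.IsSheaf Y.smallEtaleTopology (lowerShriekPre f F) := by
  refine (Presheaf.isSheaf_iff_isSheaf_forget Y.smallEtaleTopology (lowerShriekPre f F)
    (forget AddCommGrpCat)).2 ?_
  rw [isSheaf_iff_isSheaf_of_type]
  intro V S hS x hx
  have hP := (isSheaf_iff_isSheaf_of_type _ _).1 ((Presheaf.isSheaf_iff_isSheaf_forget
    Y.smallEtaleTopology _ (forget AddCommGrpCat)).1 ((EtCoh.push f).obj F).property) S hS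
  let y : Presieve.FamilyOfElements (((EtCoh.push f).obj F).obj ⋙ forget AddCommGrpCat) S.arrows :=
    fun V' φ hφ => (x φ hφ).1
  have hy : y.Compatible := fun A B C g₁ g₂ φ₁ φ₂ h₁ h₂ w =>
    congrArg Subtype.val (hx g₁ g₂ h₁ h₂ w)
  obtain ⟨t, ht, hu⟩ := hP y hy
  refine ⟨⟨t, mem_of_cover f F S hS t fun V' φ hφ => ?_⟩,
    fun V' φ hφ => Subtype.ext (ht φ hφ), fun z hz => Subtype.ext (hu _ fun V' φ hφ => ?_)⟩
  · have e : F.obj.map ((EtCoh.bc f).map φ).op t = (x φ hφ).1 := ht φ hφ
    rw [e]
    exact (x φ hφ).2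
  · exact congrArg Subtype.val (hz φ hφ)

/-- The sheaf of sections with proper support. -/
def sh : EtCoh.Ab Y := ⟨lowerShriekPre f F, isSheaf f F⟩

/-- `F ↦` the sheaf of sections with proper support. -/
def shFunctor : EtCoh.Ab X ⥤ EtCoh.Ab Y where
  obj F := sh f F
  map α := ⟨(lowerShriekPreFunctor f).map α⟩
  map_id F := by
    apply Sheaf.hom_ext
    exact (lowerShriekPreFunctor f).map_id F
  map_comp α β := by
    apply Sheaf.hom_ext
    exact (lowerShriekPreFunctor f).map_comp α β

/-- Sheafification does nothing. -/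
def lowerShriekIso : lowerShriek f ≅ shFunctor f :=
  NatIso.ofComponents
    (fun F => (sheafificationIso (sh f F)).symm)
    (fun {F G} α => (sheafificationNatIso (J := Y.smallEtaleTopology)
      (D := AddCommGrpCat.{u + 1})).inv.naturality ((shFunctor f).map α))

/-- The inclusion into the direct image. -/
def shι : shFunctor f ⟶ EtCoh.push f where
  app F := ⟨lowerShriekPreι f F⟩
  naturality F G α := by
    apply Sheaf.hom_ext
    ext V ⟨s, hs⟩
    rfl

end Groth.Agent.Lib.EtShriek50.Pre
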