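import Groth.Prelude.Def_EtTens2
import Groth.Agent.Lib.EtGerm.Basic
import Mathlib.CategoryTheory.Sites.Point.Skyscraper
import Mathlib.LinearAlgebra.TensorProduct.Basic

/-!
# Stalks of tensor products of abelian etale sheaves
-/

set_option autoImplicit false

universe u

open CategoryTheory CategoryTheory.Limits AlgebraicGeometry Opposite TensorProduct

noncomputable section

namespace Groth.Agent.Lib.EtShriek50.TensorStalk

open Groth.Agent.Lib.EtSite Groth.Agent.Lib.EtSite.Basic Groth.Agent.Lib.EtGerm.Basic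

variable {X : Scheme.{u}} (F G : EtCoh.Ab X)

/-- The presheaf tensor product. -/
abbrev tp : X.Etaleᵒᵖ ⥤ AddCommGrpCat.{u + 1} := EtTens.tensorObj F.obj G.obj

/-- The sheaf tensor product. -/
abbrev ts : EtCoh.Ab X := (EtTens.tensorBi.obj F).obj G

/-- The tensor of two sections, as a section of the sheaf tensor product. -/
def pair (V : X.Etale) : (F.obj.obj (op V) : Type (u + 1)) →+ G.obj.obj (op V) →+ EtCoh.sect (ts F G) V :=
  AddMonoidHom.mk' (fun s => AddMonoidHom.mk'
      (fun t => (toSheafify X.smallEtaleTopology (tp F G)).app (op V) (s ⊗ₜ[ℤ] t))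
      fun t t' => by
        rw [TensorProduct.tmul_add]
        exact map_add ((toSheafify X.smallEtaleTopology (tp F G)).app (op V)).hom _ _)
    fun s s' => by
      ext t
      change (toSheafify X.smallEtaleTopology (tp F G)).app (op V) ((s + s') ⊗ₜ[ℤ] t) = _
      rw [TensorProduct.add_tmul]
      exact map_add ((toSheafify X.smallEtaleTopology (tp F G)).app (op V)).hom _ _

theorem map_pair {V V' : X.Etale} (a : V' ⟶ V) (s : F.obj.obj (op V)) (t : G.obj.obj (op V)) :
    (ts F G).obj.map a.op (pair F G V s t) = pair F G V' (F.obj.map a.op s) (G.obj.map a.op t) :=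
  (NatTrans.naturality_apply (toSheafify X.smallEtaleTopology (tp F G)) a.op (s ⊗ₜ[ℤ] t)).symm

variable {Ω : Type u} [Field Ω] [IsSepClosed Ω] (ξ : Spec (CommRingCat.of Ω) ⟶ X)

theorem exists_rep (a : Stk F ξ) (b : Stk G ξ) :
    ∃ V p s t, germ F ξ V p s = a ∧ germ G ξ V p t = b := by
  obtain ⟨V₁, p₁, s, rfl⟩ := exists_germ F a
  obtain ⟨V₂, p₂, t, rfl⟩ := exists_germ G b
  let W := IsCofiltered.min ((Scheme.pointSmallEtale ξ).fiber.elementsMk V₁ p₁)
    ((Scheme.pointSmallEtale ξ).fiber.elementsMk V₂ p₂)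
  let a : W ⟶ (Scheme.pointSmallEtale ξ).fiber.elementsMk V₁ p₁ := IsCofiltered.minToLeft _ _
  let b : W ⟶ (Scheme.pointSmallEtale ξ).fiber.elementsMk V₂ p₂ := IsCofiltered.minToRight _ _
  have ha : (Scheme.pointSmallEtale ξ).fiber.map a.1 W.2 = p₁ := a.2
  have hb : (Scheme.pointSmallEtale ξ).fiber.map b.1 W.2 = p₂ := b.2
  exact ⟨W.1, W.2, F.obj.map a.1.op s, G.obj.map b.1.op t,
    (germ_map F ξ a.1 W.2 s).trans (by rw [ha]), (germ_map G ξ b.1 W.2 t).trans (by rw [hb])⟩

theorem germ_pair_congr {V V' : X.Etale} (p : (Scheme.pointSmallEtale ξ).fiber.obj V)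
    (p' : (Scheme.pointSmallEtale ξ).fiber.obj V') (s : F.obj.obj (op V)) (t : G.obj.obj (op V))
    (s' : F.obj.obj (op V')) (t' : G.obj.obj (op V'))
    (hs : germ F ξ V p s = germ F ξ V' p' s') (ht : germ G ξ V p t = germ G ξ V' p' t') :
    germ (ts F G) ξ V p (pair F G V s t) = germ (ts F G) ξ V' p' (pair F G V' s' t') := by
  let W := IsCofiltered.min ((Scheme.pointSmallEtale ξ).fiber.elementsMk V p)
    ((Scheme.pointSmallEtale ξ).fiber.elementsMk V' p')
  let a : W ⟶ (Scheme.pointSmallEtale ξ).fiber.elementsMk V p := IsCofiltered.minToLeft _ _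
  let b : W ⟶ (Scheme.pointSmallEtale ξ).fiber.elementsMk V' p' := IsCofiltered.minToRight _ _
  have ha : (Scheme.pointSmallEtale ξ).fiber.map a.1 W.2 = p := a.2
  have hb : (Scheme.pointSmallEtale ξ).fiber.map b.1 W.2 = p' := b.2
  have hs' : germ F ξ W.1 W.2 (F.obj.map a.1.op s) = germ F ξ W.1 W.2 (F.obj.map b.1.op s') := by
    rw [germ_map, germ_map, ha, hb, hs]
  have ht' : germ G ξ W.1 W.2 (G.obj.map a.1.op t) = germ G ξ W.1 W.2 (G.obj.map b.1.op t') := by
    rw [germ_map, germ_map, ha, hb, ht]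
  obtain ⟨Z₁, g₁, q₁, hq₁, e₁⟩ :=
    ((Scheme.pointSmallEtale ξ).toPresheafFiber_eq_iff' W.1 W.2 _ _).1 hs'
  obtain ⟨Z₂, g₂, q₂, hq₂, e₂⟩ :=
    ((Scheme.pointSmallEtale ξ).toPresheafFiber_eq_iff' W.1 W.2 _ _).1 ht'
  obtain ⟨T, c, d, hcd⟩ := IsCofiltered.cospan
    (show (Scheme.pointSmallEtale ξ).fiber.elementsMk Z₁ q₁ ⟶ _ from ⟨g₁, hq₁⟩)
    (show (Scheme.pointSmallEtale ξ).fiber.elementsMk Z₂ q₂ ⟶ W from ⟨g₂, hq₂⟩)
  have hw : c.1 ≫ g₁ = d.1 ≫ g₂ := congrArg Subtype.val hcd
  have hc : (Scheme.pointSmallEtale ξ).fiber.map c.1 T.2 = q₁ := c.2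
  have move : ∀ {A A' : X.Etale} (g : A' ⟶ A) (q : (Scheme.pointSmallEtale ξ).fiber.obj A')
      (q' : (Scheme.pointSmallEtale ξ).fiber.obj A), (Scheme.pointSmallEtale ξ).fiber.map g q = q' →
      ∀ x, germ (ts F G) ξ A q' x = germ (ts F G) ξ A' q ((ts F G).obj.map g.op x) :=
    fun g q q' hq x => by subst hq; exact (germ_map (ts F G) ξ g q x).symm
  refine (move a.1 W.2 p ha _).trans ((move g₁ q₁ W.2 hq₁ _).trans ((move c.1 T.2 q₁ hc _).trans ?_))
  refine Eq.trans ?_
    (((move b.1 W.2 p' hb _).trans ((move g₁ q₁ W.2 hq₁ _).trans (move c.1 T.2 q₁ hc _))).symm)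
  congr 1
  simp only [map_pair]
  have f₁ : F.obj.map c.1.op (F.obj.map g₁.op (F.obj.map a.1.op s)) =
      F.obj.map c.1.op (F.obj.map g₁.op (F.obj.map b.1.op s')) := congrArg _ e₁
  have f₂ : G.obj.map c.1.op (G.obj.map g₁.op (G.obj.map a.1.op t)) =
      G.obj.map c.1.op (G.obj.map g₁.op (G.obj.map b.1.op t')) := by
    have key : ∀ x, G.obj.map c.1.op (G.obj.map g₁.op x) = G.obj.map d.1.op (G.obj.map g₂.op x) :=
      fun x => by
        rw [← ConcreteCategory.comp_apply, ← Functor.map_comp, ← op_comp, hw, op_comp,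
          Functor.map_comp, ConcreteCategory.comp_apply]
    rw [key, key]
    exact congrArg _ e₂
  exact congrArg₂ (fun x y => pair F G T.1 x y) f₁ f₂

/-- The value of the pairing of two germs. -/
def pairVal (a : Stk F ξ) (b : Stk G ξ) : Stk (ts F G) ξ :=
  germ (ts F G) ξ (exists_rep F G ξ a b).choose (exists_rep F G ξ a b).choose_spec.choose
    (pair F G _ (exists_rep F G ξ a b).choose_spec.choose_spec.choose
      (exists_rep F G ξ a b).choose_spec.choose_spec.choose_spec.choose)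

theorem pairVal_eq (V : X.Etale) (p : (Scheme.pointSmallEtale ξ).fiber.obj V)
    (s : F.obj.obj (op V)) (t : G.obj.obj (op V)) {a : Stk F ξ} {b : Stk G ξ}
    (ha : germ F ξ V p s = a) (hb : germ G ξ V p t = b) :
    pairVal F G ξ a b = germ (ts F G) ξ V p (pair F G V s t) :=
  germ_pair_congr F G ξ _ p _ _ s t
    ((exists_rep F G ξ a b).choose_spec.choose_spec.choose_spec.choose_spec.1.trans ha.symm)
    ((exists_rep F G ξ a b).choose_spec.choose_spec.choose_spec.choose_spec.2.trans hb.symm)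

theorem exists_rep₃ {P Q R : EtCoh.Ab X} (a : Stk P ξ) (b : Stk Q ξ) (c : Stk R ξ) :
    ∃ V p s t r, germ P ξ V p s = a ∧ germ Q ξ V p t = b ∧ germ R ξ V p r = c := by
  obtain ⟨V, p, s, t, hs, ht⟩ := exists_rep P Q ξ a b
  obtain ⟨V', p', r, -, hr, -⟩ := exists_rep R R ξ c c
  let W := IsCofiltered.min ((Scheme.pointSmallEtale ξ).fiber.elementsMk V p)
    ((Scheme.pointSmallEtale ξ).fiber.elementsMk V' p')
  let i : W ⟶ (Scheme.pointSmallEtale ξ).fiber.elementsMk V p := IsCofiltered.minToLeft _ _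
  let j : W ⟶ (Scheme.pointSmallEtale ξ).fiber.elementsMk V' p' := IsCofiltered.minToRight _ _
  have hi : (Scheme.pointSmallEtale ξ).fiber.map i.1 W.2 = p := i.2
  have hj : (Scheme.pointSmallEtale ξ).fiber.map j.1 W.2 = p' := j.2
  exact ⟨W.1, W.2, P.obj.map i.1.op s, Q.obj.map i.1.op t, R.obj.map j.1.op r,
    (germ_map P ξ i.1 W.2 s).trans ((congrArg (fun q => germ P ξ V q s) hi).trans hs),
    (germ_map Q ξ i.1 W.2 t).trans ((congrArg (fun q => germ Q ξ V q t) hi).trans ht),
    (germ_map R ξ j.1 W.2 r).trans ((congrArg (fun q => germ R ξ V' q r) hj).trans hr)⟩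

/-- The pairing of germs. -/
def stPair : Stk F ξ →+ Stk G ξ →+ Stk (ts F G) ξ :=
  AddMonoidHom.mk' (fun a => AddMonoidHom.mk' (pairVal F G ξ a) fun b b' => by
    obtain ⟨V, p, s, t, t', hs, ht, ht'⟩ := exists_rep₃ ξ a b b'
    rw [pairVal_eq F G ξ V p s (t + t') hs (by rw [map_add, ht, ht']),
      pairVal_eq F G ξ V p s t hs ht, pairVal_eq F G ξ V p s t' hs ht', map_add, map_add])
    fun a a' => by
      ext b
      obtain ⟨V, p, s, s', t, hs, hs', ht⟩ := exists_rep₃ ξ a a' b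
      simp only [AddMonoidHom.add_apply, AddMonoidHom.mk'_apply]
      rw [pairVal_eq F G ξ V p (s + s') t (by rw [map_add, hs, hs']) ht,
        pairVal_eq F G ξ V p s t hs ht, pairVal_eq F G ξ V p s' t hs' ht, map_add,
        AddMonoidHom.add_apply, map_add]

theorem stPair_germ (V : X.Etale) (p : (Scheme.pointSmallEtale ξ).fiber.obj V)
    (s : F.obj.obj (op V)) (t : G.obj.obj (op V)) :
    stPair F G ξ (germ F ξ V p s) (germ G ξ V p t) = germ (ts F G) ξ V p (pair F G V s t) :=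
  pairVal_eq F G ξ V p s t rfl rfl

/-- The comparison of stalks. -/
def stTensor : Stk F ξ ⊗[ℤ] Stk G ξ →+ Stk (ts F G) ξ :=
  TensorProduct.liftAddHom (stPair F G ξ) fun r m n => by
    rw [map_zsmul, map_zsmul, AddMonoidHom.smul_apply]

theorem stTensor_germ (V : X.Etale) (p : (Scheme.pointSmallEtale ξ).fiber.obj V)
    (s : F.obj.obj (op V)) (t : G.obj.obj (op V)) :
    stTensor F G ξ (germ F ξ V p s ⊗ₜ germ G ξ V p t) = germ (ts F G) ξ V p (pair F G V s t) :=
  stPair_germ F G ξ V p s t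

/-- The evaluation of the presheaf fibre. -/
def preMap : (Scheme.pointSmallEtale ξ).presheafFiber.obj (tp F G) ⟶
    AddCommGrpCat.of (Stk F ξ ⊗[ℤ] Stk G ξ) :=
  (Scheme.pointSmallEtale ξ).presheafFiberDesc
    (fun V p => AddCommGrpCat.ofHom (TensorProduct.map (germ F ξ V p).toIntLinearMap
      (germ G ξ V p).toIntLinearMap).toAddMonoidHom)
    (fun V V' a q => EtTens.hom_ext_tmul fun s t => by
      change germ F ξ V q (F.obj.map a.op s) ⊗ₜ[ℤ] germ G ξ V q (G.obj.map a.op t) =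
        germ F ξ V' ((Scheme.pointSmallEtale ξ).fiber.map a q) s ⊗ₜ[ℤ]
          germ G ξ V' ((Scheme.pointSmallEtale ξ).fiber.map a q) t
      rw [germ_map, germ_map])

theorem stTensor_preMap (z : ((Scheme.pointSmallEtale ξ).presheafFiber.obj (tp F G) : AddCommGrpCat.{u + 1})) :
    stTensor F G ξ (preMap F G ξ z) =
      (Scheme.pointSmallEtale ξ).presheafFiber.map (toSheafify X.smallEtaleTopology (tp F G)) z := by
  obtain ⟨V, p, x, rfl⟩ := (Scheme.pointSmallEtale ξ).toPresheafFiber_jointly_surjective z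
  have h1 : preMap F G ξ ((Scheme.pointSmallEtale ξ).toPresheafFiber V p (tp F G) x) =
      TensorProduct.map (germ F ξ V p).toIntLinearMap (germ G ξ V p).toIntLinearMap x :=
    congrArg (fun k : (tp F G).obj (op V) ⟶ AddCommGrpCat.of (Stk F ξ ⊗[ℤ] Stk G ξ) => k.hom x)
      ((Scheme.pointSmallEtale ξ).toPresheafFiber_presheafFiberDesc _ _ V p)
  rw [h1]
  refine Eq.trans ?_ ((Scheme.pointSmallEtale ξ).toPresheafFiber_naturality_apply
    (toSheafify X.smallEtaleTopology (tp F G)) V p x).symm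
  change (stTensor F G ξ) _ = germ (ts F G) ξ V p ((toSheafify X.smallEtaleTopology (tp F G)).app (op V) x)
  clear h1
  induction x using TensorProduct.induction_on with
  | zero =>
    rw [map_zero, map_zero]
    exact (map_zero (germ (ts F G) ξ V p)).symm.trans
      (congrArg _ (map_zero ((toSheafify X.smallEtaleTopology (tp F G)).app (op V)).hom).symm)
  | tmul s t => exact stTensor_germ F G ξ V p s t
  | add a b ha hb =>
    rw [map_add, map_add, ha, hb]
    exact ((map_add (germ (ts F G) ξ V p) _ _).symm).trans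
      (congrArg _ (map_add ((toSheafify X.smallEtaleTopology (tp F G)).app (op V)).hom _ _).symm)

theorem preMap_surjective : Function.Surjective (preMap F G ξ) := by
  intro w
  induction w using TensorProduct.induction_on with
  | zero => exact ⟨0, map_zero _⟩
  | tmul a b =>
    obtain ⟨V, p, s, t, rfl, rfl⟩ := exists_rep F G ξ a b
    exact ⟨(Scheme.pointSmallEtale ξ).toPresheafFiber V p (tp F G) (s ⊗ₜ t),
      congrArg (fun k : (tp F G).obj (op V) ⟶ AddCommGrpCat.of (Stk F ξ ⊗[ℤ] Stk G ξ) => k.hom (s ⊗ₜ t))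
        ((Scheme.pointSmallEtale ξ).toPresheafFiber_presheafFiberDesc _ _ V p)⟩
  | add a b ha hb =>
    obtain ⟨x, rfl⟩ := ha
    obtain ⟨y, rfl⟩ := hb
    exact ⟨x + y, map_add _ _ _⟩

theorem bijective_stTensor : Function.Bijective (stTensor F G ξ) := by
  have hb := (ConcreteCategory.isIso_iff_bijective
    ((Scheme.pointSmallEtale ξ).presheafFiber.map (toSheafify X.smallEtaleTopology (tp F G)))).1
      inferInstance
  constructor
  · intro a b h
    obtain ⟨x, rfl⟩ := preMap_surjective F G ξ a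
    obtain ⟨y, rfl⟩ := preMap_surjective F G ξ b
    rw [stTensor_preMap, stTensor_preMap] at h
    rw [hb.1 h]
  · intro z
    obtain ⟨x, hx⟩ := hb.2 z
    exact ⟨preMap F G ξ x, (stTensor_preMap F G ξ x).trans hx⟩

end Groth.Agent.Lib.EtShriek50.TensorStalk
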