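import Groth.Agent.Lib.EtShriek50.Stalk
import Groth.Agent.Lib.EtShriek50.TensorStalk
import Groth.Agent.Lib.EtJ.PullGerm

/-!
# The projection formula
-/

set_option autoImplicit false

universe u

open CategoryTheory CategoryTheory.Limits AlgebraicGeometry Opposite TensorProduct

noncomputable section

namespace Groth.Agent.Lib.EtShriek50.Projection

open EtShriek Groth.Agent.Lib.EtSite Groth.Agent.Lib.EtSite.Basic Groth.Agent.Lib.EtGerm.Basic
  Groth.Agent.Lib.EtShriek50 Groth.Agent.Lib.EtShriek50.TensorStalk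

variable {X Y : Scheme.{u}} (f : X ⟶ Y) [LocallyOfFiniteType f] (F : EtCoh.Ab X) (G : EtCoh.Ab Y)

/-- The target sheaf on the source. -/
abbrev H : EtCoh.Ab X := ts F ((EtCoh.pull f).obj G)

/-- The pulled back section. -/
def up (V : Y.Etale) :
    (G.obj.obj (op V) : Type (u + 1)) →+ EtCoh.sect ((EtCoh.pull f).obj G) ((EtCoh.bc f).obj V) :=
  (((EtCoh.pullPushAdj f).unit.app G).hom.app (op V)).hom

omit [LocallyOfFiniteType f] in
theorem map_up {V V' : Y.Etale} (a : V' ⟶ V) (t : G.obj.obj (op V)) :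
    ((EtCoh.pull f).obj G).obj.map ((EtCoh.bc f).map a).op (up f G V t) = up f G V' (G.obj.map a.op t) :=
  (NatTrans.naturality_apply ((EtCoh.pullPushAdj f).unit.app G).hom a.op t).symm

theorem pair_mem (V : Y.Etale) (s : EtCoh.sect (Pre.sh f F) V) (t : G.obj.obj (op V)) :
    pair F ((EtCoh.pull f).obj G) ((EtCoh.bc f).obj V) s.1 (up f G V t) ∈
      shriekSubgroup f (H f F G) V := by
  obtain ⟨Z, hZ, hp⟩ := (Pre.mem_iff f F V s.1).1 s.2
  refine (Pre.mem_iff f _ V _).2 ⟨Z, fun x hx => hZ ?_, hp⟩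
  intro W g hw h0
  refine hx W g hw ?_
  rw [map_pair, h0, map_zero, AddMonoidHom.zero_apply]

/-- The pairing into sections with proper support. -/
def prePair (V : Y.Etale) : EtCoh.sect (Pre.sh f F) V →+ (G.obj.obj (op V) : Type (u + 1)) →+
    shriekSubgroup f (H f F G) V :=
  AddMonoidHom.mk'
    (fun s => AddMonoidHom.codRestrict
      ((pair F ((EtCoh.pull f).obj G) ((EtCoh.bc f).obj V) s.1).comp (up f G V))
      (shriekSubgroup f (H f F G) V) (fun t => pair_mem f F G V s t))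
    (fun s s' => AddMonoidHom.ext fun t => Subtype.ext (by
      change pair F ((EtCoh.pull f).obj G) ((EtCoh.bc f).obj V) (s.1 + s'.1) (up f G V t) = _
      rw [map_add, AddMonoidHom.add_apply]
      rfl))

/-- The pairing on a tensor product. -/
def preApp (V : Y.Etale) :
    (EtCoh.sect (Pre.sh f F) V) ⊗[ℤ] (G.obj.obj (op V) : Type (u + 1)) →+
      shriekSubgroup f (H f F G) V :=
  TensorProduct.liftAddHom (prePair f F G V)
    fun r m n => by rw [map_zsmul, map_zsmul, AddMonoidHom.smul_apply]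

theorem preApp_tmul (V : Y.Etale) (s : EtCoh.sect (Pre.sh f F) V) (t : G.obj.obj (op V)) :
    (preApp f F G V (s ⊗ₜ t)).1 = pair F _ ((EtCoh.bc f).obj V) s.1 (up f G V t) := rfl

theorem preApp_map {V V' : Y.Etale} (a : V' ⟶ V) (s : EtCoh.sect (Pre.sh f F) V) (t : G.obj.obj (op V)) :
    (preApp f F G V' ((Pre.sh f F).obj.map a.op s ⊗ₜ G.obj.map a.op t)).1 =
      (H f F G).obj.map ((EtCoh.bc f).map a).op (preApp f F G V (s ⊗ₜ t)).1 := by
  rw [preApp_tmul, preApp_tmul, map_pair, map_up]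
  rfl

/-- The map of presheaves. -/
def pre : tp (Pre.sh f F) G ⟶ (Pre.sh f (H f F G)).obj where
  app V := AddCommGrpCat.ofHom (preApp f F G V.unop)
  naturality V V' a := EtTens.hom_ext_tmul fun s t => Subtype.ext (preApp_map f F G a.unop s t)

/-- The projection map. -/
def μ : ts (Pre.sh f F) G ⟶ Pre.sh f (H f F G) :=
  ⟨sheafifyLift Y.smallEtaleTopology (pre f F G) (Pre.sh f (H f F G)).property⟩

theorem μ_pair (V : Y.Etale) (s : EtCoh.sect (Pre.sh f F) V) (t : G.obj.obj (op V)) :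
    (μ f F G).hom.app (op V) (pair (Pre.sh f F) G V s t) =
      (⟨_, pair_mem f F G V s t⟩ : shriekSubgroup f (H f F G) V) :=
  congrArg (fun k : tp (Pre.sh f F) G ⟶ (Pre.sh f (H f F G)).obj => (k.app (op V)).hom (s ⊗ₜ[ℤ] t))
    (toSheafify_sheafifyLift Y.smallEtaleTopology (pre f F G) (Pre.sh f (H f F G)).property)

variable [IsSeparated f] [LocallyQuasiFinite f] {Ω : Type u} [Field Ω] [IsAlgClosed Ω]
  (η : Spec (CommRingCat.of Ω) ⟶ Y)

omit [LocallyOfFiniteType f] [IsSeparated f] [LocallyQuasiFinite f] in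
/-- Germs of the inverse image. -/
theorem exists_θ (ξ : Stalk.PtsOver f η) :
    ∃ θ : Stk G η →+ Stk ((EtCoh.pull f).obj G) ξ.1, Function.Bijective θ ∧
      ∀ (V : Y.Etale) (p : (Scheme.pointSmallEtale η).fiber.obj V) (t : G.obj.obj (op V)),
        θ (germ G η V p t) = germ _ ξ.1 ((EtCoh.bc f).obj V) (PushStalk.liftPt f ξ.2 V p) (up f G V t) := by
  obtain ⟨ξ, rfl⟩ := ξ
  let e := (EtSite.Pull.stalkPull f ξ).app G
  refine ⟨e.inv.hom, (ConcreteCategory.isIso_iff_bijective e.inv).1 inferInstance, fun V p t => ?_⟩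
  have h := congrArg (fun k => k.hom t) (EtJ.PullGerm.stalkPull_germ f ξ G V p)
  have hp : (EtSite.Pull.fiberBcIso f ξ).inv.app V p = PushStalk.liftPt f rfl V p :=
    Over.OverMorphism.ext (pullback.hom_ext
      ((pullback.lift_fst _ _ _).trans (pullback.lift_fst _ _ _).symm)
      ((pullback.lift_snd _ _ _).trans (pullback.lift_snd _ _ _).symm))
  rw [hp] at h
  have h' : e.hom (germ _ ξ ((EtCoh.bc f).obj V) (PushStalk.liftPt f rfl V p) (up f G V t)) =
      germ G (ξ ≫ f) V p t := h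
  refine Eq.trans ?_ (congrArg (fun k => k.hom (germ _ ξ _ (PushStalk.liftPt f rfl V p) (up f G V t)))
    e.hom_inv_id)
  exact congrArg e.inv.hom h'.symm

/-- Germs of the inverse image. -/
def θ (ξ : Stalk.PtsOver f η) : Stk G η →+ Stk ((EtCoh.pull f).obj G) ξ.1 :=
  (exists_θ f G η ξ).choose

/-- The stalk of the projection map. -/
def Ψ : Stk (Pre.sh f F) η ⊗[ℤ] Stk G η →+ Stk (Pre.sh f (H f F G)) η :=
  ((EtCoh.stalk η).map (μ f F G)).hom.comp (stTensor (Pre.sh f F) G η)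

theorem evl_Ψ (ξ : Stalk.PtsOver f η) (a : Stk (Pre.sh f F) η) (b : Stk G η) :
    (Stalk.evl f ξ).app (H f F G) (Ψ f F G η (a ⊗ₜ b)) =
      stTensor F ((EtCoh.pull f).obj G) ξ.1 ((Stalk.evl f ξ).app F a ⊗ₜ θ f G η ξ b) := by
  obtain ⟨V, p, s, t, rfl, rfl⟩ := exists_rep (Pre.sh f F) G η a b
  have h1 : Ψ f F G η (germ _ η V p s ⊗ₜ germ G η V p t) =
      germ (Pre.sh f (H f F G)) η V p (⟨_, pair_mem f F G V s t⟩ : shriekSubgroup f (H f F G) V) := by
    change (EtCoh.stalk η).map (μ f F G) (stTensor (Pre.sh f F) G η _) = _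
    rw [stTensor_germ]
    refine ((Scheme.pointSmallEtale η).toPresheafFiber_naturality_apply (μ f F G).hom V p _).trans ?_
    exact congrArg _ (μ_pair f F G V s t)
  rw [h1, θ, (exists_θ f G η ξ).choose_spec.2]
  refine (Stalk.evl_germ f ξ _ V p _).trans ?_
  refine Eq.trans ?_ (congrArg (fun z => stTensor F ((EtCoh.pull f).obj G) ξ.1 (z ⊗ₜ[ℤ] _))
    (Stalk.evl_germ f ξ F V p s)).symm
  exact (stTensor_germ F ((EtCoh.pull f).obj G) ξ.1 _ _ _ _).symm

theorem single_eq_Ψ (ξ : Stalk.PtsOver f η) (c : Stk F ξ.1) (b : Stk G η) :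
    Ψ f F G η (Stalk.single f F ξ c ⊗ₜ b) =
      Stalk.single f (H f F G) ξ (stTensor F ((EtCoh.pull f).obj G) ξ.1 (c ⊗ₜ θ f G η ξ b)) := by
  refine Stalk.evl_ext f _ fun ξ' => ?_
  rw [evl_Ψ]
  by_cases h : ξ' = ξ
  · subst h
    refine Eq.trans ?_ (Stalk.evl_single f (H f F G) ξ' _).symm
    exact congrArg (fun z => stTensor F ((EtCoh.pull f).obj G) ξ'.1 (z ⊗ₜ[ℤ] θ f G η ξ' b))
      (Stalk.evl_single f F ξ' c)
  · refine Eq.trans ?_ (Stalk.evl_single_ne f (H f F G) h _).symm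
    refine (congrArg (fun z => stTensor F ((EtCoh.pull f).obj G) ξ'.1 (z ⊗ₜ[ℤ] θ f G η ξ' b))
      (Stalk.evl_single_ne f F h c)).trans ?_
    exact (congrArg (stTensor F ((EtCoh.pull f).obj G) ξ'.1)
      (TensorProduct.zero_tmul (Stk F ξ'.1) (θ f G η ξ' b))).trans (map_zero _)

open scoped DirectSum in
theorem bijective_Ψ : Function.Bijective (Ψ f F G η) := by
  classical
  have hθ : ∀ ξ, Function.Bijective (θ f G η ξ) := fun ξ => (exists_θ f G η ξ).choose_spec.1
  let τ := fun ξ : Stalk.PtsOver f η =>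
    AddEquiv.ofBijective (stTensor F ((EtCoh.pull f).obj G) ξ.1) (bijective_stTensor _ _ _)
  let θe := fun ξ : Stalk.PtsOver f η => AddEquiv.ofBijective (θ f G η ξ) (hθ ξ)
  let back : ∀ ξ : Stalk.PtsOver f η,
      Stk (H f F G) ξ.1 →+ Stk (Pre.sh f F) η ⊗[ℤ] Stk G η := fun ξ =>
    (TensorProduct.map (Stalk.single f F ξ).toIntLinearMap
      (θe ξ).symm.toAddMonoidHom.toIntLinearMap).toAddMonoidHom.comp (τ ξ).symm.toAddMonoidHom
  let D := AddEquiv.ofBijective _ (Stalk.bijective_sum f (H f F G) (η := η))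
  let Φ : Stk (Pre.sh f (H f F G)) η →+ Stk (Pre.sh f F) η ⊗[ℤ] Stk G η :=
    (DirectSum.toAddMonoid back).comp D.symm.toAddMonoidHom
  have hΦ : ∀ ξ c b, Φ (Ψ f F G η (Stalk.single f F ξ c ⊗ₜ b)) = Stalk.single f F ξ c ⊗ₜ b := by
    intro ξ c b
    rw [single_eq_Ψ]
    let w := stTensor F ((EtCoh.pull f).obj G) ξ.1 (c ⊗ₜ θ f G η ξ b)
    have e1 : D.symm (Stalk.single f (H f F G) ξ w) =
        DirectSum.of (fun ξ : Stalk.PtsOver f η => Stk (H f F G) ξ.1) ξ w :=
      D.symm_apply_eq.2 (DirectSum.toAddMonoid_of (fun ξ => Stalk.single f (H f F G) ξ) ξ w).symm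
    change DirectSum.toAddMonoid back (D.symm (Stalk.single f (H f F G) ξ w)) = _
    rw [e1, DirectSum.toAddMonoid_of]
    have e2 : (τ ξ).symm w = c ⊗ₜ θ f G η ξ b := (τ ξ).symm_apply_eq.2 rfl
    change TensorProduct.map (Stalk.single f F ξ).toIntLinearMap
      (θe ξ).symm.toAddMonoidHom.toIntLinearMap ((τ ξ).symm w) = _
    rw [e2, TensorProduct.map_tmul]
    exact congrArg (fun z => Stalk.single f F ξ c ⊗ₜ[ℤ] z) ((θe ξ).symm_apply_apply b)
  have hgen : ∀ x : Stk (Pre.sh f F) η ⊗[ℤ] Stk G η, Φ (Ψ f F G η x) = x := by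
    intro x
    induction x using TensorProduct.induction_on with
    | zero => rw [map_zero, map_zero]
    | tmul a b =>
      obtain ⟨w, rfl⟩ := (Stalk.bijective_sum f F (η := η)).2 a
      induction w using DirectSum.induction_on with
      | zero => rw [map_zero, TensorProduct.zero_tmul, map_zero, map_zero]
      | of ξ c => rw [DirectSum.toAddMonoid_of]; exact hΦ ξ c b
      | add u v hu hv => rw [map_add, TensorProduct.add_tmul, map_add, map_add, hu, hv]
    | add u v hu hv => rw [map_add, map_add, hu, hv]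
  refine ⟨fun x y h => by rw [← hgen x, ← hgen y, h], fun z => ?_⟩
  obtain ⟨w, rfl⟩ := (Stalk.bijective_sum f (H f F G) (η := η)).2 z
  induction w using DirectSum.induction_on with
  | zero => exact ⟨0, (map_zero _).trans (map_zero _).symm⟩
  | of ξ c =>
    rw [DirectSum.toAddMonoid_of]
    obtain ⟨x, rfl⟩ := (bijective_stTensor F ((EtCoh.pull f).obj G) ξ.1).2 c
    induction x using TensorProduct.induction_on with
    | zero => exact ⟨0, by rw [map_zero, map_zero, map_zero]⟩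
    | tmul c b =>
      obtain ⟨b, rfl⟩ := (hθ ξ).2 b
      exact ⟨_, single_eq_Ψ f F G η ξ c b⟩
    | add u v hu hv =>
      obtain ⟨a, ha⟩ := hu
      obtain ⟨b, hb⟩ := hv
      exact ⟨a + b, by rw [map_add, map_add, map_add, ha, hb]⟩
  | add u v hu hv =>
    obtain ⟨a, ha⟩ := hu
    obtain ⟨b, hb⟩ := hv
    exact ⟨a + b, by rw [map_add, map_add, ha, hb]⟩

theorem isIso_μ : IsIso (μ f F G) :=
  EtSite.Stalk.isIso_of_stalks _ fun y =>
    ⟨_, inferInstance, inferInstance, Push.algPoint Y y, Push.algPoint_apply Y y _, by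
      have hs := bijective_stTensor (Pre.sh f F) G (Push.algPoint Y y)
      have hΨ := bijective_Ψ f F G (Push.algPoint Y y)
      refine ⟨fun a b h => ?_, fun z => ?_⟩
      · obtain ⟨a, rfl⟩ := hs.2 a
        obtain ⟨b, rfl⟩ := hs.2 b
        exact congrArg _ (hΨ.1 h)
      · obtain ⟨w, hw⟩ := hΨ.2 z
        exact ⟨_, hw⟩⟩

theorem nonempty : Nonempty ((EtTens.tensorBi.obj ((lowerShriek f).obj F)).obj G ≅
    (lowerShriek f).obj ((EtTens.tensorBi.obj F).obj ((EtCoh.pull f).obj G))) :=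
  ⟨(EtTens.tensorBi.mapIso ((Pre.lowerShriekIso f).app F)).app G ≪≫
    @asIso _ _ _ _ (μ f F G) (isIso_μ f F G) ≪≫
    ((Pre.lowerShriekIso f).app (H f F G)).symm⟩

end Groth.Agent.Lib.EtShriek50.Projection
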