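import Groth.Agent.Lib.EtShriek50.Pre
import Groth.Agent.Lib.EtShriek50.Nhd
import Mathlib.Algebra.DirectSum.Basic

/-!
# Stalks of the proper-support direct image along separated locally quasi-finite morphisms
-/

set_option autoImplicit false

universe u

open CategoryTheory CategoryTheory.Limits AlgebraicGeometry Opposite

noncomputable section

namespace Groth.Agent.Lib.EtShriek50.Stalk

open Groth.Agent.Lib.EtSite Groth.Agent.Lib.EtSite.Basic Groth.Agent.Lib.EtGerm.Basic EtShriek
  Groth.Agent.Lib.EtShriek50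

variable {X Y : Scheme.{u}} (f : X ⟶ Y) [LocallyOfFiniteType f]
  {Ω : Type u} [Field Ω] [IsSepClosed Ω] {η : Spec (CommRingCat.of Ω) ⟶ Y}

/-- The geometric points of `X` above `η`. -/
abbrev PtsOver (η : Spec (CommRingCat.of Ω) ⟶ Y) : Type u :=
  {ξ : Spec (CommRingCat.of Ω) ⟶ X // ξ ≫ f = η}

/-- Evaluation of a germ at a geometric point above. -/
def evl (ξ : PtsOver f η) : Pre.shFunctor f ⋙ EtCoh.stalk η ⟶ EtCoh.stalk ξ.1 :=
  Functor.whiskerRight (Pre.shι f) (EtCoh.stalk η) ≫
    PushStalk.germTo f AddCommGrpCat.{u + 1} ξ.2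

theorem evl_germ (ξ : PtsOver f η) (F : EtCoh.Ab X) (V : Y.Etale)
    (p : (Scheme.pointSmallEtale η).fiber.obj V) (s : EtCoh.sect (Pre.sh f F) V) :
    (evl f ξ).app F (germ (Pre.sh f F) η V p s) =
      germ F ξ.1 ((EtCoh.bc f).obj V) (PushStalk.liftPt f ξ.2 V p) s.1 := by
  refine (congrArg ((PushStalk.germTo f AddCommGrpCat.{u + 1} ξ.2).app F)
    ((Scheme.pointSmallEtale η).toPresheafFiber_naturality_apply (lowerShriekPreι f F) V p s)).trans ?_
  exact PushStalk.germTo_toPresheafFiber f ξ.2 F V p _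

omit [LocallyOfFiniteType f] in
theorem fiberPt_liftPt_fst (ξ : PtsOver f η) (V : Y.Etale)
    (p : (Scheme.pointSmallEtale η).fiber.obj V) :
    fiberHom (PushStalk.liftPt f ξ.2 V p) ≫ prV f V = fiberHom p :=
  pullback.lift_fst _ _ _

theorem isClosed_image {A T : Scheme.{u}} (g : A ⟶ T) {Z : Set A} (hZ : ClSub.IsProperOver g Z) :
    IsClosed (g.base '' Z) := by
  obtain ⟨hc, hp⟩ := hZ
  let i := (ZarCoh.ProperOver.red ⟨Z, hc⟩).subschemeι
  have : IsProper (i ≫ g) := hp
  have e : g.base '' Z = Set.range (i ≫ g).base := by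
    exact (congrArg (g.base '' ·) (ZarCoh.ProperOver.range_red ⟨Z, hc⟩).symm).trans
      (Set.range_comp g.base i.base).symm
  rw [e]
  exact (i ≫ g).isClosedMap.isClosed_range

section algClosed

variable {Ω : Type u} [Field Ω] [IsAlgClosed Ω] {η : Spec (CommRingCat.of Ω) ⟶ Y}
  [IsSeparated f] [LocallyQuasiFinite f] (F : EtCoh.Ab X)

omit [LocallyOfFiniteType f] [IsSeparated f] in
instance lqf_prV (V : Y.Etale) : LocallyQuasiFinite (prV f V) :=
  MorphismProperty.pullback_fst (P := @LocallyQuasiFinite) V.hom f ‹_›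

omit [IsSeparated f] in
/-- A germ vanishing at all points above is zero. -/
theorem eq_zero_of_evl (z : Stk (Pre.sh f F) η) (h : ∀ ξ : PtsOver f η, (evl f ξ).app F z = 0) :
    z = 0 := by
  obtain ⟨V, p, s, rfl⟩ := exists_germ _ z
  have hs := (Pre.mem_iff' f F V s.1).1 s.2
  have hC := isClosed_image (prV f V) hs
  have hp : fiberPt p ∉ (prV f V).base '' sectSupp F ((EtCoh.bc f).obj V) s.1 := by
    rintro ⟨x, hx, hxp⟩
    obtain ⟨x', hx', hx'x⟩ := Piece.exists_pt_over (prV f V) (fiberHom p) x hxp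
    let ξ : PtsOver f η := ⟨x' ≫ pullback.snd V.hom f, PushStalk.snd_comp_eq f hx'⟩
    have hlift : fiberHom (PushStalk.liftPt f ξ.2 V p) = x' :=
      pullback.hom_ext ((pullback.lift_fst _ _ _).trans hx'.symm) (pullback.lift_snd _ _ _)
    have h0 := h ξ
    rw [evl_germ] at h0
    refine (Supp.germ_eq_zero_iff _ _).1 h0 ?_
    have : fiberPt (PushStalk.liftPt f ξ.2 V p) = x :=
      (congrArg (fun m => m.base default) hlift).trans hx'x
    exact this.symm ▸ hx
  let W : V.left.Opens := ⟨((prV f V).base '' sectSupp F ((EtCoh.bc f).obj V) s.1)ᶜ, hC.isOpen_compl⟩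
  have : Etale V.hom := V.prop
  let V' : Y.Etale := MorphismProperty.Over.mk ⊤ (W.ι ≫ V.hom) (show Etale _ from inferInstance)
  let a : V' ⟶ V := MorphismProperty.Over.homMk W.ι rfl
  obtain ⟨p', hp', -⟩ := Fiber.exists_fiber_map η a p ⟨fiberPt p, hp⟩ rfl
  rw [← hp', ← germ_map]
  have : (Pre.sh f F).obj.map a.op s = 0 := by
    refine Subtype.ext (Supp.eq_zero_of_sectSupp ?_)
    change sectSupp F _ (F.obj.map ((EtCoh.bc f).map a).op s.1) = ∅
    rw [Supp.sectSupp_map]
    refine Set.eq_empty_iff_forall_notMem.2 fun w hw => ?_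
    refine ((prV f V').base w).2 ⟨_, hw, ?_⟩
    exact congrArg (fun m => m.base w) (EtCoh.isPullback_bc_map f a).w
  rw [this, map_zero]

/-- Every germ at a point above extends by zero. -/
theorem exists_single (ξ : PtsOver f η) (c : Stk F ξ.1) :
    ∃ z : Stk (Pre.sh f F) η, (evl f ξ).app F z = c ∧
      ∀ ξ' : PtsOver f η, ξ' ≠ ξ → (evl f ξ').app F z = 0 := by
  classical
  obtain ⟨U, q, a, rfl⟩ := exists_germ F c
  obtain ⟨T, p, C, o, b, l, ho, hfin, hol, hbl, huniq⟩ := Nhd.exists_piece f ξ.2 U q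
  have : IsFinite o.left :=
    MorphismProperty.of_postcomp (W' := @IsSeparated) @IsFinite o.left (prV f T) inferInstance hfin
  have : IsClosedImmersion o.left :=
    IsClosedImmersion.of_isPreimmersion _ o.left.isClosedMap.isClosed_range
  let Oc : ((EtCoh.bc f).obj T).left.Opens :=
    ⟨(Set.range o.left.base)ᶜ, o.left.isClosedMap.isClosed_range.isOpen_compl⟩
  have : Etale ((EtCoh.bc f).obj T).hom := ((EtCoh.bc f).obj T).prop
  let C' : X.Etale :=
    MorphismProperty.Over.mk ⊤ (Oc.ι ≫ ((EtCoh.bc f).obj T).hom) (show Etale _ from inferInstance)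
  let o' : C' ⟶ (EtCoh.bc f).obj T := MorphismProperty.Over.homMk Oc.ι rfl
  let D : Bool → X.Etale := fun i => bif i then C else C'
  let oo : ∀ i, D i ⟶ (EtCoh.bc f).obj T := fun i => match i with
    | true => o
    | false => o'
  have hD : DisjointCover.IsDisjointCover D oo :=
    { isOpenImmersion := fun i => match i with
        | true => ho
        | false => (show IsOpenImmersion Oc.ι from inferInstance)
      exists_eq := fun x => by
        by_cases hx : x ∈ Set.range o.left.base
        · obtain ⟨d, hd⟩ := hx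
          exact ⟨true, d, hd⟩
        · exact ⟨false, ⟨x, hx⟩, rfl⟩
      disjoint := fun i j x y hxy => by
        match i, j, x, y, hxy with
        | true, true, _, _, _ => rfl
        | false, false, _, _, _ => rfl
        | true, false, x, y, hxy => exact absurd ⟨x, hxy⟩ y.2
        | false, true, x, y, hxy => exact absurd ⟨y, hxy.symm⟩ x.2 }
  let fam : ∀ i, ToType (F.obj.obj (op (D i))) := fun i => match i with
    | true => F.obj.map b.op a
    | false => (0 : EtCoh.sect F C')
  obtain ⟨t, ht⟩ := hD.exists_glue F fam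
  have hsupp : sectSupp F ((EtCoh.bc f).obj T) t ⊆ Set.range o.left.base := by
    intro x hx
    by_contra hn
    exact hx C' o' ⟨⟨x, hn⟩, rfl⟩ (ht false)
  have hmem : t ∈ shriekSubgroup f F T :=
    (Pre.mem_iff f F T t).2 ⟨_, hsupp,
      (ZarCoh.ProperOver.isProper_comp_iff (prV f T) o.left rfl).1 inferInstance⟩
  refine ⟨germ (Pre.sh f F) η T p (⟨t, hmem⟩ : shriekSubgroup f F T), ?_, fun ξ' hne => ?_⟩
  · refine (evl_germ f ξ F T p _).trans ?_
    rw [← hol, ← germ_map, ← hbl]
    exact (congrArg _ (ht true)).trans (germ_map F ξ.1 b l a)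
  · refine (evl_germ f ξ' F T p _).trans ((Supp.germ_eq_zero_iff _ _).2 fun hx => hne ?_)
    obtain ⟨d, hd⟩ := hsupp hx
    obtain ⟨x, hx', -⟩ := Piece.exists_pt_over o.left (fiberHom (PushStalk.liftPt f ξ'.2 T p)) d hd
    have hxl : x = fiberHom l := huniq x
      ((Category.assoc _ _ _).symm.trans ((congrArg (· ≫ prV f T) hx').trans (fiberPt_liftPt_fst f ξ' T p)))
    have h1 : fiberHom (PushStalk.liftPt f ξ'.2 T p) = fiberHom (PushStalk.liftPt f ξ.2 T p) := by
      rw [← hx', hxl, ← hol]
      rfl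
    have h2 := congrArg (fun m => m ≫ pullback.snd T.hom f) h1
    exact Subtype.ext ((pullback.lift_snd _ _ _).symm.trans (h2.trans (pullback.lift_snd _ _ _)))

/-- Only finitely many values of a germ are nonzero. -/
theorem finite_support (z : Stk (Pre.sh f F) η) :
    {ξ : PtsOver f η | (evl f ξ).app F z ≠ 0}.Finite := by
  obtain ⟨V, p, s, rfl⟩ := exists_germ _ z
  obtain ⟨hc, hp⟩ := (Pre.mem_iff' f F V s.1).1 s.2
  let i := (ZarCoh.ProperOver.red ⟨_, hc⟩).subschemeι
  have : IsProper (i ≫ prV f V) := hp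
  have : LocallyQuasiFinite (i ≫ prV f V) := inferInstance
  let Q := pullback (i ≫ prV f V) (fiberHom p)
  have := FieldExt.discreteTopology_of_locallyQuasiFinite (pullback.snd (i ≫ prV f V) (fiberHom p))
  have : CompactSpace ↥Q :=
    (quasiCompact_iff_compactSpace (pullback.snd (i ≫ prV f V) (fiberHom p))).1 inferInstance
  have : Finite ↥Q := finite_of_compact_of_discrete
  have key : ∀ ξ : {ξ : PtsOver f η // (evl f ξ).app F (germ (Pre.sh f F) η V p s) ≠ 0},
      ∃ x : Spec (CommRingCat.of Ω) ⟶ (ZarCoh.ProperOver.red ⟨_, hc⟩).subscheme,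
        x ≫ i = fiberHom (PushStalk.liftPt f ξ.1.2 V p) := by
    intro ξ
    have hmem : fiberPt (PushStalk.liftPt f ξ.1.2 V p) ∈ sectSupp F ((EtCoh.bc f).obj V) s.1 := by
      by_contra hn
      exact ξ.2 ((evl_germ f ξ.1 F V p s).trans ((Supp.germ_eq_zero_iff _ _).2 hn))
    obtain ⟨y, hy⟩ := (ZarCoh.ProperOver.range_red ⟨_, hc⟩).ge hmem
    obtain ⟨x, hx, -⟩ := Piece.exists_pt_over i (fiberHom (PushStalk.liftPt f ξ.1.2 V p)) y hy
    exact ⟨x, hx⟩
  choose x hx using key
  let S := fun ξ => pullback.lift (f := i ≫ prV f V) (g := fiberHom p) (x ξ) (𝟙 _)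
    ((Category.assoc _ _ _).symm.trans ((congrArg (· ≫ prV f V) (hx ξ)).trans
      ((fiberPt_liftPt_fst f ξ.1 V p).trans (Category.id_comp _).symm)))
  refine Set.finite_coe_iff.1 (Finite.of_injective (fun ξ => (S ξ).base default) fun ξ ξ' he => ?_)
  have h1 : S ξ = S ξ' := by
    have := FieldExt.eq_comp_section (h := pullback.snd (i ≫ prV f V) (fiberHom p)) (s := S ξ')
      (pullback.lift_snd _ _ _) (S ξ) he
    rwa [pullback.lift_snd, Category.id_comp] at this
  have h2 : x ξ = x ξ' :=
    (pullback.lift_fst _ _ _).symm.trans ((congrArg (· ≫ pullback.fst _ _) h1).trans (pullback.lift_fst _ _ _))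
  have h3 : fiberHom (PushStalk.liftPt f ξ.1.2 V p) = fiberHom (PushStalk.liftPt f ξ'.1.2 V p) :=
    (hx ξ).symm.trans ((congrArg (· ≫ i) h2).trans (hx ξ'))
  exact Subtype.ext (Subtype.ext ((pullback.lift_snd _ _ _).symm.trans
    ((congrArg (· ≫ pullback.snd V.hom f) h3).trans (pullback.lift_snd _ _ _))))

theorem evl_ext {z z' : Stk (Pre.sh f F) η} (h : ∀ ξ : PtsOver f η, (evl f ξ).app F z = (evl f ξ).app F z') :
    z = z' := by
  refine sub_eq_zero.1 (eq_zero_of_evl f F _ fun ξ => ?_)
  exact (map_sub ((evl f ξ).app F).hom z z').trans (sub_eq_zero.2 (h ξ))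

/-- The germ with a single nonzero value. -/
def single (ξ : PtsOver f η) : Stk F ξ.1 →+ Stk (Pre.sh f F) η where
  toFun c := (exists_single f F ξ c).choose
  map_zero' := by
    refine eq_zero_of_evl f F _ fun ξ' => ?_
    by_cases h : ξ' = ξ
    · subst h
      exact (exists_single f F ξ' 0).choose_spec.1
    · exact (exists_single f F ξ 0).choose_spec.2 ξ' h
  map_add' c d := by
    refine evl_ext f F fun ξ' => ?_
    refine Eq.trans ?_ (map_add ((evl f ξ').app F).hom _ _).symm
    by_cases h : ξ' = ξ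
    · subst h
      exact (exists_single f F ξ' (c + d)).choose_spec.1.trans
        (congrArg₂ (· + ·) (exists_single f F ξ' c).choose_spec.1 (exists_single f F ξ' d).choose_spec.1).symm
    · exact ((exists_single f F ξ (c + d)).choose_spec.2 ξ' h).trans ((congrArg₂ (· + ·)
        ((exists_single f F ξ c).choose_spec.2 ξ' h) ((exists_single f F ξ d).choose_spec.2 ξ' h)).trans
        (add_zero 0)).symm

theorem evl_single (ξ : PtsOver f η) (c : Stk F ξ.1) :
    (evl f ξ).app F (single f F ξ c) = c :=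
  (exists_single f F ξ c).choose_spec.1

theorem evl_single_ne {ξ ξ' : PtsOver f η} (h : ξ' ≠ ξ) (c : Stk F ξ.1) :
    (evl f ξ').app F (single f F ξ c) = 0 :=
  (exists_single f F ξ c).choose_spec.2 ξ' h

open scoped DirectSum in
/-- The stalk is the direct sum of the stalks above. -/
theorem bijective_sum [DecidableEq (PtsOver f η)] :
    Function.Bijective
      (DirectSum.toAddMonoid (fun ξ : PtsOver f η => single f F ξ) :
        (⨁ ξ : PtsOver f η, Stk F ξ.1) →+ Stk (Pre.sh f F) η) := by
  have key : ∀ (w : ⨁ ξ : PtsOver f η, Stk F ξ.1) (ξ : PtsOver f η),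
      (evl f ξ).app F (DirectSum.toAddMonoid (fun ξ => single f F ξ) w) = w ξ := by
    intro w ξ
    induction w using DirectSum.induction_on with
    | zero => rw [map_zero]; exact map_zero ((evl f ξ).app F).hom
    | of j c =>
      rw [DirectSum.toAddMonoid_of]
      by_cases h : ξ = j
      · subst h; rw [DirectSum.of_eq_same]; exact evl_single f F ξ c
      · rw [DirectSum.of_eq_of_ne _ _ _ h]; exact evl_single_ne f F h c
    | add a b ha hb =>
      rw [map_add, DirectSum.add_apply, ← ha, ← hb]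
      exact map_add ((evl f ξ).app F).hom _ _
  refine ⟨fun w w' h => DFinsupp.ext fun ξ => ?_, fun z => ?_⟩
  · exact (key w ξ).symm.trans ((congrArg _ h).trans (key w' ξ))
  · let s := (finite_support f F z).toFinset
    refine ⟨∑ ξ ∈ s, DirectSum.of (fun ξ : PtsOver f η => Stk F ξ.1) ξ ((evl f ξ).app F z),
      evl_ext f F fun ξ => ?_⟩
    refine (key _ ξ).trans ?_
    rw [DFinsupp.finset_sum_apply, Finset.sum_eq_single ξ]
    · exact DirectSum.of_eq_same _ _
    · exact fun j _ hj => DirectSum.of_eq_of_ne _ _ _ (Ne.symm hj)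
    · intro hξ
      rw [DirectSum.of_eq_same]
      by_contra h
      exact hξ ((finite_support f F z).mem_toFinset.2 h)

end algClosed

end Groth.Agent.Lib.EtShriek50.Stalk
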