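import Groth.Agent.Lib.EtShriek50.Stalk

/-!
# The stalk of `f_!` as a coproduct
-/

set_option autoImplicit false

universe u v

open CategoryTheory CategoryTheory.Limits AlgebraicGeometry Opposite

noncomputable section

namespace Groth.Agent.Lib.EtShriek50.StalkIso

open Groth.Agent.Lib.EtShriek50 EtShriek

open scoped DirectSum in
/-- A family of maps inducing a bijection from the direct sum gives a coproduct. -/
theorem nonempty_iso_coproduct {ι : Type v} [DecidableEq ι] [HasColimitsOfShape (Discrete ι) AddCommGrpCat.{u + 1}]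
    (Z : ι → AddCommGrpCat.{u + 1}) (M : AddCommGrpCat.{u + 1}) (φ : ∀ i, Z i ⟶ M)
    (h : Function.Bijective (DirectSum.toAddMonoid fun i => (φ i).hom)) : Nonempty (M ≅ ∐ Z) := by
  let e : (⨁ i, (Z i : Type (u + 1))) ≃+ M := AddEquiv.ofBijective _ h
  refine ⟨{ hom := AddCommGrpCat.ofHom
              ((DirectSum.toAddMonoid fun i => (Sigma.ι Z i).hom).comp e.symm.toAddMonoidHom)
            inv := Sigma.desc φ
            hom_inv_id := ?_
            inv_hom_id := ?_ }⟩
  · ext x
    obtain ⟨w, rfl⟩ := e.surjective x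
    change (Sigma.desc φ).hom ((DirectSum.toAddMonoid fun i => (Sigma.ι Z i).hom) (e.symm (e w))) = e w
    rw [e.symm_apply_apply]
    induction w using DirectSum.induction_on with
    | zero => rw [map_zero, map_zero, map_zero]
    | of i c =>
      refine (congrArg (Sigma.desc φ).hom
        (DirectSum.toAddMonoid_of (fun i => (Sigma.ι Z i).hom) i c)).trans ?_
      refine Eq.trans ?_ (DirectSum.toAddMonoid_of (fun i => (φ i).hom) i c).symm
      exact congrArg (fun k => k.hom c) (Sigma.ι_desc φ i)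
    | add a b ha hb => rw [map_add, map_add, ha, hb, map_add]
  · refine Sigma.hom_ext _ _ fun i => ?_
    rw [Sigma.ι_desc_assoc, Category.comp_id]
    ext c
    change (DirectSum.toAddMonoid fun i => (Sigma.ι Z i).hom) (e.symm ((φ i).hom c)) = _
    rw [← DirectSum.toAddMonoid_of (fun i => (φ i).hom) i c]
    refine (congrArg _ (e.symm_apply_apply (DirectSum.of (fun i => (Z i : Type (u + 1))) i c))).trans ?_
    exact DirectSum.toAddMonoid_of (fun i => (Sigma.ι Z i).hom) i c

variable {X Y : Scheme.{u}} (f : X ⟶ Y) [IsSeparated f] [LocallyOfFiniteType f] [LocallyQuasiFinite f]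
  {Ω : Type u} [Field Ω] [IsAlgClosed Ω]

theorem nonempty_stalk (F : EtCoh.Ab X) (η : Spec (CommRingCat.of Ω) ⟶ Y) :
    Nonempty ((EtCoh.stalk η).obj ((lowerShriek f).obj F) ≅
      ∐ fun ξ : {ξ : Spec (CommRingCat.of Ω) ⟶ X // ξ ≫ f = η} => (EtCoh.stalk ξ.1).obj F) := by
  classical
  obtain ⟨e⟩ := nonempty_iso_coproduct
    (fun ξ : Stalk.PtsOver f η => (EtCoh.stalk ξ.1).obj F) ((EtCoh.stalk η).obj (Pre.sh f F))
    (fun ξ => AddCommGrpCat.ofHom (Stalk.single f F ξ)) (Stalk.bijective_sum f F)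
  exact ⟨(EtCoh.stalk η).mapIso ((Pre.lowerShriekIso f).app F) ≪≫ e⟩

end Groth.Agent.Lib.EtShriek50.StalkIso
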