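import Groth.Prelude.Def_EtShriek2
import Groth.Agent.Lib.EtGerm.Basic

/-!
# Supports of sections on the small etale site
-/

set_option autoImplicit false

universe u

open CategoryTheory CategoryTheory.Limits AlgebraicGeometry Opposite

noncomputable section

namespace Groth.Agent.Lib.EtShriek50.Supp

open Groth.Agent.Lib.EtSite Groth.Agent.Lib.EtSite.Basic Groth.Agent.Lib.EtGerm.Basic EtShriek

variable {X : Scheme.{u}} (F : EtCoh.Ab X) (U : X.Etale)

theorem compl_sectSupp (s : EtCoh.sect F U) : (sectSupp F U s)ᶜ = agree F U s 0 := by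
  ext x
  simp only [sectSupp, Set.mem_compl_iff, Set.mem_setOf_eq, not_forall, not_not, Set.mem_range,
    exists_prop, agree, map_zero]
  constructor
  · rintro ⟨W, g, hw, h⟩
    exact ⟨W, g, h, hw⟩
  · rintro ⟨W, g, h, hw⟩
    exact ⟨W, g, hw, h⟩

theorem isClosed_sectSupp (s : EtCoh.sect F U) : IsClosed (sectSupp F U s) := by
  rw [← isOpen_compl_iff, compl_sectSupp]
  exact isOpen_agree F U s 0

variable {F U}

/-- Outside the support the germs vanish. -/
theorem germ_eq_zero_iff {Ω : Type u} [Field Ω] [IsSepClosed Ω] {η : Spec (CommRingCat.of Ω) ⟶ X}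
    (p : (Scheme.pointSmallEtale η).fiber.obj U) (s : EtCoh.sect F U) :
    germ F η U p s = 0 ↔ fiberPt p ∉ sectSupp F U s := by
  have h := germ_eq_iff F η U p s 0
  rw [map_zero] at h
  rw [h, ← compl_sectSupp, Set.mem_compl_iff]

theorem exists_pt (x : U.left) :
    ∃ p : (Scheme.pointSmallEtale (Push.algPoint X (U.hom.base x))).fiber.obj U, fiberPt p = x :=
  exists_fiber _ U x (Push.algPoint_apply X _ _).symm

theorem eq_of_germ (x : U.left) {s t : EtCoh.sect F U}
    (h : ∀ p : (Scheme.pointSmallEtale (Push.algPoint X (U.hom.base x))).fiber.obj U,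
      germ F _ U p s = germ F _ U p t) : x ∈ agree F U s t := by
  obtain ⟨p, hp⟩ := exists_pt (U := U) x
  rw [← hp]
  exact (germ_eq_iff F _ U p s t).1 (h p)

theorem sectSupp_zero : sectSupp F U 0 = ∅ := by
  refine Set.eq_empty_iff_forall_notMem.2 fun x hx => hx U (𝟙 U) ⟨x, rfl⟩ ?_
  exact map_zero _

theorem eq_zero_of_sectSupp {s : EtCoh.sect F U} (h : sectSupp F U s = ∅) : s = 0 := by
  refine Stalk.sections_ext F s 0 fun x => ?_
  have hx : x ∈ (sectSupp F U s)ᶜ := by rw [h]; exact fun h => h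
  rw [compl_sectSupp] at hx
  exact hx

theorem sectSupp_add (s t : EtCoh.sect F U) :
    sectSupp F U (s + t) ⊆ sectSupp F U s ∪ sectSupp F U t := fun x hx => by
  by_contra hn
  rw [Set.mem_union, not_or] at hn
  obtain ⟨p, hp⟩ := exists_pt (U := U) x
  rw [← hp, ← germ_eq_zero_iff, ← germ_eq_zero_iff] at hn
  refine ((germ_eq_zero_iff p (s + t)).1 ?_) (hp.symm ▸ hx)
  rw [map_add, hn.1, hn.2, add_zero]

theorem sectSupp_neg (s : EtCoh.sect F U) : sectSupp F U (-s) = sectSupp F U s := by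
  ext x
  obtain ⟨p, hp⟩ := exists_pt (U := U) x
  refine not_iff_not.1 ?_
  rw [← hp, ← germ_eq_zero_iff, ← germ_eq_zero_iff, map_neg, neg_eq_zero]

/-- The support of a restriction is the inverse image. -/
theorem sectSupp_map {U' : X.Etale} (g : U' ⟶ U) (s : EtCoh.sect F U) :
    sectSupp F U' (F.obj.map g.op s) = g.left.base ⁻¹' sectSupp F U s := by
  ext x
  obtain ⟨p, hp⟩ := exists_pt (U := U') x
  refine not_iff_not.1 ?_
  rw [← hp, ← germ_eq_zero_iff, germ_map, germ_eq_zero_iff, fiberPt_map]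
  exact Iff.rfl

theorem sectSupp_le_of_germ {Z : Set U.left} (s : EtCoh.sect F U)
    (h : ∀ x ∉ Z, ∀ p : (Scheme.pointSmallEtale (Push.algPoint X (U.hom.base x))).fiber.obj U,
      fiberPt p = x → germ F _ U p s = 0) : sectSupp F U s ⊆ Z := by
  intro x hx
  by_contra hn
  obtain ⟨p, hp⟩ := exists_pt (U := U) x
  exact ((germ_eq_zero_iff p s).1 (h x hn p hp)) (hp.symm ▸ hx)

end Groth.Agent.Lib.EtShriek50.Supp
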